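import Cfsg.Agent.H12.CovQ
import Cfsg.Agent.H560.CovC

/-!
# Square-zero perturbations (task P of the project S2483, helper166)
-/

set_option autoImplicit false

namespace Cfsg.Agent.H12.CovP

open Module Polynomial Cfsg.Agent.H166.Cov Cfsg.Agent.H12.CovQ

universe u

variable {F : Type u} [Field F]

section block

variable {W : Type u} [AddCommGroup W] [Module F W]

/-- `(x, y) ↦ (x + y, y)` -/
def U : End F (W × W) := LinearMap.prod (LinearMap.fst F W W + LinearMap.snd F W W) (LinearMap.snd F W W)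

/-- `(x, y) ↦ (x, y + S x)` -/
def A (S : End F W) : End F (W × W) :=
  LinearMap.prod (LinearMap.fst F W W) (LinearMap.snd F W W + S ∘ₗ LinearMap.fst F W W)

/-- the product -/
def M (S : End F W) : End F (W × W) := A S * U

@[simp] theorem U_apply (z : W × W) : (U : End F (W × W)) z = (z.1 + z.2, z.2) := rfl

@[simp] theorem A_apply (S : End F W) (z : W × W) : A S z = (z.1, z.2 + S z.1) := rfl

@[simp] theorem M_apply (S : End F W) (z : W × W) : M S z = (z.1 + z.2, z.2 + S (z.1 + z.2)) := rfl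

theorem det_U [FiniteDimensional F W] : LinearMap.det (U : End F (W × W)) = 1 := by
  let b := Module.finBasis F W
  rw [← LinearMap.det_toMatrix (b.prod b)]
  have : LinearMap.toMatrix (b.prod b) (b.prod b) (U : End F (W × W)) = Matrix.fromBlocks 1 1 0 1 := by
    ext i j
    rcases i with i | i <;> rcases j with j | j <;>
      simp [LinearMap.toMatrix_apply, Matrix.one_apply, Finsupp.single_apply, eq_comm]
  rw [this, Matrix.det_fromBlocks_zero₂₁, Matrix.det_one, mul_one]

theorem det_A [FiniteDimensional F W] (S : End F W) : LinearMap.det (A S) = 1 := by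
  let b := Module.finBasis F W
  rw [← LinearMap.det_toMatrix (b.prod b)]
  have : LinearMap.toMatrix (b.prod b) (b.prod b) (A S) = Matrix.fromBlocks 1 0 (LinearMap.toMatrix b b S) 1 := by
    ext i j
    rcases i with i | i <;> rcases j with j | j <;>
      simp [LinearMap.toMatrix_apply, Matrix.one_apply, Finsupp.single_apply, eq_comm]
  rw [this, Matrix.det_fromBlocks_zero₁₂, Matrix.det_one, mul_one]

/-- the conjugating map `(x, y) ↦ (k⁻¹ y, k⁻¹ S x)` -/
def E (S : End F W) (k : F) : End F (W × W) :=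
  LinearMap.prod (k⁻¹ • LinearMap.snd F W W) (k⁻¹ • (S ∘ₗ LinearMap.fst F W W))

@[simp] theorem E_apply (S : End F W) (k : F) (z : W × W) : E S k z = (k⁻¹ • z.2, k⁻¹ • S z.1) := rfl

theorem E_U (S : End F W) (k : F) (z : W × W) : E S k ((U : End F (W × W)) z) = A S (E S k z) := by
  simp [smul_add]

theorem det_E [FiniteDimensional F W] (S : End F W) (k : F) :
    LinearMap.det (E S k) = (-1) ^ finrank F W * LinearMap.det S * (k⁻¹) ^ (2 * finrank F W) := by
  have h1 : E S k = (LinearMap.prodMap (k⁻¹ • (1 : End F W)) ((-k⁻¹) • S)) * (U * A (-1 : End F W) * U) := by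
    refine LinearMap.ext fun z => ?_
    simp
  rw [h1, map_mul, map_mul, map_mul, det_U, det_A, LinearMap.det_prodMap, LinearMap.det_smul,
    LinearMap.det_smul, map_one, neg_pow]
  ring

/-- eigenvalues of `l • M S` -/
theorem eval_M [FiniteDimensional F W] (S : End F W) {l α s : F} (hl : l ≠ 0) (hα : α ≠ 0)
    (hs : s * α = (α - 1) ^ 2) (h : (LinearMap.charpoly (l • M S)).eval (l * α) = 0) :
    (LinearMap.charpoly S).eval s = 0 := by
  have h1 : Module.End.HasEigenvalue (l • M S) (l * α) :=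
    (Module.End.hasEigenvalue_iff_isRoot_charpoly _ _).2 h
  obtain ⟨⟨x, y⟩, hz⟩ := h1.exists_hasEigenvector
  have h2 := hz.apply_eq_smul
  have h3 : M S (x, y) = α • (x, y) := by
    have h4 := congrArg (fun z => l⁻¹ • z) h2
    simpa [smul_smul, ← mul_assoc, inv_mul_cancel₀ hl] using h4
  rw [M_apply] at h3
  have hx : x + y = α • x := congrArg Prod.fst h3
  have hy : y + S (x + y) = α • y := congrArg Prod.snd h3
  have hy' : y = (α - 1) • x := by rw [sub_smul, one_smul, ← hx]; abel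
  have hSx : S x = s • x := by
    have e1 : α • S x = (α * s) • x := by
      rw [← map_smul, ← hx, mul_comm α s, hs, pow_two, mul_smul, ← hy', sub_smul, one_smul, ← hy]
      abel
    have e2 := congrArg (fun z => α⁻¹ • z) e1
    simpa [smul_smul, ← mul_assoc, inv_mul_cancel₀ hα] using e2
  have hx0 : x ≠ 0 := by
    intro h0
    apply hz.2
    rw [hy', h0, smul_zero]
    rfl
  exact (Module.End.hasEigenvalue_iff_isRoot_charpoly _ _).1
    (Module.End.hasEigenvalue_of_hasEigenvector ⟨Module.End.mem_eigenspace_iff.2 hSx, hx0⟩)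

end block

theorem charpoly_line {l α s : F} (hα : α ≠ 0) (hs : s * α = (α - 1) ^ 2) :
    LinearMap.charpoly (l • M (s • (1 : End F F))) = (X - C (l * α)) * (X - C (l * α⁻¹)) := by
  rw [← LinearMap.charpoly_toMatrix _ (Basis.finTwoProd F), Matrix.charpoly_fin_two]
  have hs' : s = (α - 1) ^ 2 / α := by field_simp; exact hs
  have h1 : LinearMap.toMatrix (Basis.finTwoProd F) (Basis.finTwoProd F) (l • M (s • (1 : End F F))) =
      !![l, l; l * s, l * (1 + s)] := by
    ext i j
    fin_cases i <;> fin_cases j <;> simp [LinearMap.toMatrix_apply]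
  rw [h1, Matrix.trace_fin_two, Matrix.det_fin_two]
  simp only [Matrix.of_apply, Matrix.cons_val', Matrix.cons_val_zero, Matrix.cons_val_one,
    Matrix.cons_val_fin_one, Matrix.empty_val']
  have e1 : l + l * (1 + s) = l * α + l * α⁻¹ := by rw [hs']; field_simp; ring
  have e2 : l * (l * (1 + s)) - l * (l * s) = (l * α) * (l * α⁻¹) := by field_simp; ring
  rw [e1, e2]
  simp only [map_add, map_mul]
  ring

section coc

variable {W : Type u} [AddCommGroup W] [Module F W]

theorem M_rel (S : End F W) (z : W × W) : (S (M S z).1, S (M S z).2) = M S (M S z) - (2 : F) • M S z + z := by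
  ext <;> simp [two_smul] <;> abel

theorem M_injective (S : End F W) (z : W × W) (h : M S z = 0) : z = 0 := by
  obtain ⟨x, y⟩ := z
  rw [M_apply] at h
  have hx : x + y = 0 := congrArg Prod.fst h
  have hy : y + S (x + y) = 0 := congrArg Prod.snd h
  rw [hx, map_zero, add_zero] at hy
  rw [hy, add_zero] at hx
  rw [hx, hy]
  rfl

theorem coc_M [FiniteDimensional F W] {S : End F W} {φ : W →ₗ[F] F} (hφ : Obs φ S) {s : F}
    (hs0 : s ≠ 0) (hinj : ∀ x, S x = 0 → x = 0) (hs : ∀ x, S x = s • x → x = 0) :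
    Coc ((M (s • (1 : End F F))).prodMap (M S)) := by
  refine ⟨(LinearMap.snd F F F) ∘ₗ (LinearMap.fst F (F × F) (W × W)) +
    φ ∘ₗ (LinearMap.snd F W W) ∘ₗ (LinearMap.snd F (F × F) (W × W)), ?_⟩
  intro Z hZ1 hZ2
  have hΨ : ∀ z ∈ Z, z.1.2 + φ z.2.2 = 0 := hZ1
  obtain ⟨T, hT⟩ : ∃ T, T = (M (s • (1 : End F F))).prodMap (M S) := ⟨_, rfl⟩
  rw [← hT] at hZ2
  have hTz : ∀ z, T z = (M (s • (1 : End F F)) z.1, M S z.2) := fun z => by rw [hT]; rfl
  have hTi : Function.Injective (T.restrict hZ2) := by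
    rw [← LinearMap.ker_eq_bot, LinearMap.ker_eq_bot']
    rintro ⟨z, hz⟩ h
    have h1 : T z = 0 := congrArg Subtype.val h
    rw [hTz] at h1
    have h2 := M_injective _ _ (congrArg Prod.fst h1)
    have h3 := M_injective _ _ (congrArg Prod.snd h1)
    exact Subtype.ext (Prod.ext h2 h3)
  have hTs : Function.Surjective (T.restrict hZ2) := LinearMap.injective_iff_surjective.1 hTi
  -- `Z` is invariant under `S`
  have hS : ∀ z ∈ Z, ((s • z.1.1, s • z.1.2), (S z.2.1, S z.2.2)) ∈ Z := by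
    intro z hz
    obtain ⟨⟨w, hw⟩, hwz⟩ := hTs ⟨z, hz⟩
    have h1 : T w = z := congrArg Subtype.val hwz
    have h2 : ((s • z.1.1, s • z.1.2), (S z.2.1, S z.2.2)) = T (T w) - (2 : F) • T w + w := by
      rw [← h1, hTz w, hTz]
      have h3 := M_rel (s • (1 : End F F)) w.1
      have h4 := M_rel S w.2
      refine Prod.ext ?_ ?_
      · exact h3
      · exact h4
    rw [h2]
    exact Z.add_mem (Z.sub_mem (hZ2 _ (hZ2 _ hw)) (Z.smul_mem _ (hZ2 _ hw))) hw
  -- elements of the second block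
  have h0 : ∀ x y : W, (((0, 0), (x, y)) : (F × F) × (W × W)) ∈ Z → x = 0 ∧ y = 0 := by
    have hy : ∀ x y : W, (((0, 0), (x, y)) : (F × F) × (W × W)) ∈ Z → y = 0 := by
      let Y : Submodule F W :=
        { carrier := {y | ∃ x, (((0, 0), (x, y)) : (F × F) × (W × W)) ∈ Z}
          add_mem' := by
            rintro a b ⟨x, hx⟩ ⟨x', hx'⟩
            refine ⟨x + x', ?_⟩
            have := Z.add_mem hx hx'
            simpa using this
          zero_mem' := ⟨0, Z.zero_mem⟩
          smul_mem' := by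
            rintro c a ⟨x, hx⟩
            refine ⟨c • x, ?_⟩
            have := Z.smul_mem c hx
            simpa using this }
      have hY : Y = ⊥ := by
        apply hφ
        · rintro y ⟨x, hx⟩
          have := hΨ _ hx
          simpa using this
        · rintro y ⟨x, hx⟩
          refine ⟨S x, ?_⟩
          have := hS _ hx
          simpa using this
      intro x y hxy
      have : y ∈ Y := ⟨x, hxy⟩
      rw [hY] at this
      exact (Submodule.mem_bot F).1 this
    intro x y hxy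
    have e1 := hy x y hxy
    refine ⟨?_, e1⟩
    have e2 := hZ2 _ hxy
    rw [hTz, e1] at e2
    have e3 : ((M (s • (1 : End F F)) (0, 0), M S (x, 0)) : (F × F) × (W × W)) = ((0, 0), (x, S x)) := by
      simp
    rw [e3] at e2
    exact hinj x (hy x (S x) e2)
  rw [eq_bot_iff]
  rintro ⟨⟨a, c⟩, ⟨x, y⟩⟩ hz
  have e1 : (((0, 0), (S x - s • x, S y - s • y)) : (F × F) × (W × W)) ∈ Z := by
    have h6 := Z.sub_mem (hS _ hz) (Z.smul_mem s hz)
    have h7 : (((s • a, s • c), (S x, S y)) : (F × F) × (W × W)) - s • ((a, c), (x, y)) =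
        ((0, 0), (S x - s • x, S y - s • y)) := by
      ext <;> simp
    rwa [h7] at h6
  obtain ⟨e2, e3⟩ := h0 _ _ e1
  have hx : x = 0 := hs x (sub_eq_zero.1 e2)
  have hy : y = 0 := hs y (sub_eq_zero.1 e3)
  have hc : c = 0 := by
    have := hΨ _ hz
    simpa [hy] using this
  have ha : a = 0 := by
    have h5 := hΨ _ (hZ2 _ hz)
    rw [hTz] at h5
    simp only [hx, hy, hc, M_apply] at h5
    simpa [hs0] using h5
  rw [Submodule.mem_bot, ha, hc, hx, hy]
  rfl

end coc

/-! ### parameters -/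

theorem exists_ne_three [Finite F] (hq : 4 ≤ Nat.card F) : ∃ c : F, c ≠ 0 ∧ c ≠ 1 ∧ c ≠ -1 := by
  classical
  have := Fintype.ofFinite F
  by_contra h
  push Not at h
  have h1 : (Finset.univ : Finset F) ⊆ {0, 1, -1} := by
    intro x _
    by_cases h0 : x = 0
    · simp [h0]
    · by_cases h1 : x = 1
      · simp [h1]
      · simp [h x h0 h1]
  have h2 := Finset.card_le_card h1
  rw [Finset.card_univ, ← Nat.card_eq_fintype_card] at h2
  have h3 : ({0, 1, -1} : Finset F).card ≤ 3 := Finset.card_le_three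
  omega

theorem exists_param [Finite F] (hq : 4 ≤ Nat.card F) {b : ℕ} (hb : 2 ≤ b) :
    ∃ (α s k : F) (r : F[X]), α ≠ 0 ∧ α ≠ α⁻¹ ∧ s ≠ 0 ∧ s * α = (α - 1) ^ 2 ∧ k ≠ 0 ∧ r.Monic ∧
      r.natDegree = b - 1 ∧ r.eval s ≠ 0 ∧ r.eval 0 * s = -k ^ (2 * (b - 1)) := by
  obtain ⟨α, h0, h1, h2⟩ := exists_ne_three hq
  have hα' : α ≠ α⁻¹ := by
    intro h
    have h3 : (α - 1) * (α + 1) = 0 := by
      have : α * α = 1 := by nth_rewrite 2 [h]; exact mul_inv_cancel₀ h0
      linear_combination this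
    rcases mul_eq_zero.1 h3 with h4 | h4
    · exact h1 (sub_eq_zero.1 h4)
    · exact h2 (eq_neg_of_add_eq_zero_left h4)
  have hs : ((α - 1) ^ 2 / α) * α = (α - 1) ^ 2 := by field_simp
  have hs0 : (α - 1) ^ 2 / α ≠ 0 := div_ne_zero (pow_ne_zero 2 (sub_ne_zero.2 h1)) h0
  obtain ⟨s, hs'⟩ : ∃ s, s = (α - 1) ^ 2 / α := ⟨_, rfl⟩
  rw [← hs'] at hs hs0
  rcases Nat.lt_or_ge 2 b with hb' | hb'
  · -- `b ≥ 3`
    obtain ⟨c, hc⟩ : ∃ c : F, s ^ (b - 1) + c * s - s⁻¹ ≠ 0 := by
      by_cases h : s ^ (b - 1) - s⁻¹ = 0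
      · refine ⟨1, fun h4 => hs0 ?_⟩
        linear_combination h4 - h
      · exact ⟨0, by simpa using h⟩
    have hdeg : (C c * X + C (-s⁻¹) : F[X]).degree < ((b - 1 : ℕ) : WithBot ℕ) := by
      refine lt_of_le_of_lt (degree_linear_le) ?_
      exact_mod_cast (by omega : 1 < b - 1)
    refine ⟨α, s, 1, X ^ (b - 1) + (C c * X + C (-s⁻¹)), h0, hα', hs0, hs, one_ne_zero,
      monic_X_pow_add hdeg, ?_, ?_, ?_⟩
    · rw [natDegree_add_eq_left_of_degree_lt (by rw [degree_X_pow]; exact hdeg), natDegree_X_pow]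
    · simpa [sub_eq_add_neg, add_assoc] using hc
    · have : b - 1 ≠ 0 := by omega
      simp [this, hs0]
  · have hb2 : b = 2 := le_antisymm hb' hb
    subst hb2
    obtain ⟨c, c0, c1, c2⟩ := exists_ne_three hq
    refine ⟨α, s, s * c, X - C (s * c ^ 2), h0, hα', hs0, hs, mul_ne_zero hs0 c0, monic_X_sub_C _, ?_, ?_, ?_⟩
    · exact natDegree_X_sub_C _
    · have h5 : eval s (X - C (s * c ^ 2)) = s * ((1 - c) * (1 + c)) := by simp; ring
      rw [h5]
      refine mul_ne_zero hs0 (mul_ne_zero (sub_ne_zero.2 (Ne.symm c1)) fun h => c2 ?_)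
      linear_combination h
    · simp; ring

theorem simS_of_det {V : Type u} [AddCommGroup V] [Module F V] [FiniteDimensional F V]
    {S T f : End F V} (hf : LinearMap.det f = 1) (h : ∀ x, f (S x) = T (f x)) : SimS S T := by
  refine ⟨LinearMap.equivOfDetNeZero f (by rw [hf]; exact one_ne_zero), ?_, h⟩
  exact hf

/-- the coordinates adapted to a square-zero map of maximal rank -/
theorem exists_equiv {V : Type u} [AddCommGroup V] [Module F V] [FiniteDimensional F V] {b : ℕ}
    (hV : finrank F V = 2 * b) {N : End F V} (hN : N * N = 0)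
    (hr : finrank F (LinearMap.range N) = b) {W : Type u} [AddCommGroup W] [Module F W]
    [FiniteDimensional F W] (hW : finrank F W = b) :
    ∃ Φ : (W × W) ≃ₗ[F] V, ∀ z, N (Φ z) = Φ (z.2, 0) := by
  let i : W ≃ₗ[F] LinearMap.range N := LinearEquiv.ofFinrankEq _ _ (by rw [hW, hr])
  obtain ⟨j, hj⟩ := LinearMap.exists_rightInverse_of_surjective N.rangeRestrict N.range_rangeRestrict
  have hj' : ∀ k : LinearMap.range N, N (j k) = k := fun k => by
    have := LinearMap.congr_fun hj k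
    exact congrArg Subtype.val this
  have hNi : ∀ k : LinearMap.range N, N (k : V) = 0 := by
    rintro ⟨_, y, rfl⟩
    exact LinearMap.congr_fun hN y
  let f : (W × W) →ₗ[F] V := ((LinearMap.range N).subtype ∘ₗ (i : W →ₗ[F] LinearMap.range N)).coprod
    (j ∘ₗ (i : W →ₗ[F] LinearMap.range N))
  have hf : ∀ z, f z = (i z.1 : V) + j (i z.2) := fun z => rfl
  have hNf : ∀ z, N (f z) = (i z.2 : V) := by
    intro z
    rw [hf, map_add, hNi, hj', zero_add]
  have hinj : Function.Injective f := by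
    rw [← LinearMap.ker_eq_bot, LinearMap.ker_eq_bot']
    intro z hz
    have h1 : (i z.2 : V) = 0 := by rw [← hNf, hz, map_zero]
    have h2 : z.2 = 0 := by
      have : i z.2 = 0 := Subtype.ext h1
      simpa using this
    rw [hf, h2, map_zero, map_zero, add_zero] at hz
    have h3 : z.1 = 0 := by
      have : i z.1 = 0 := Subtype.ext hz
      simpa using this
    exact Prod.ext h3 h2
  refine ⟨LinearEquiv.ofInjectiveOfFinrankEq f hinj (by rw [finrank_prod, hW, hV, two_mul]), fun z => ?_⟩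
  show N (f z) = f (z.2, 0)
  rw [hNf, hf]
  simp

/-- **task P** -/
theorem exists_nice_sq_zero {V : Type u} [AddCommGroup V] [Module F V] [Finite F]
    (hq : 4 ≤ Nat.card F) [FiniteDimensional F V] {b : ℕ} (hb : 2 ≤ b) (hV : finrank F V = 2 * b)
    {N : End F V} (hN : N * N = 0) (hr : finrank F (LinearMap.range N) = b) {l : F} (hl : l ≠ 0) :
    ∃ (M : End F V) (ν : F), Nice ν M ∧ HPS (l • (1 + N)) 2 M := by
  obtain ⟨α, s, k, r, hα, hα', hs0, hs, hk, hrm, hrd, hrs, hr0⟩ := exists_param hq hb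
  let W := Fin (b - 1) → F
  obtain ⟨S, hSc, hS⟩ := Cfsg.Agent.H560.CovC.exists_coc (V := W) hrm (by simp [W, hrd])
  obtain ⟨φ, hφ⟩ := hSc
  have hW : finrank F W = b - 1 := by simp [W]
  obtain ⟨Φ₀, hΦ₀⟩ := exists_equiv hV hN hr (W := F × W) (by rw [finrank_prod, finrank_self, hW]; omega)
  obtain ⟨Φ, hΦ⟩ : ∃ Φ : ((F × F) × (W × W)) ≃ₗ[F] V, ∀ z, N (Φ z) = Φ ((z.1.2, 0), (z.2.2, 0)) := by
    refine ⟨(LinearEquiv.prodProdProdComm F F F W W).trans Φ₀, fun z => ?_⟩
    simp only [LinearEquiv.trans_apply, hΦ₀]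
    rfl
  -- eigenvalues of `S`
  have heig : ∀ (t : F), r.eval t ≠ 0 → ∀ x, S x = t • x → x = 0 := by
    intro t ht x hx
    by_contra h0
    apply ht
    have := (Module.End.hasEigenvalue_iff_isRoot_charpoly S t).1
      (Module.End.hasEigenvalue_of_hasEigenvector ⟨Module.End.mem_eigenspace_iff.2 hx, h0⟩)
    rw [hS] at this
    exact this
  have hr00 : r.eval 0 ≠ 0 := by
    intro h
    rw [h, zero_mul] at hr0
    exact pow_ne_zero _ hk (neg_eq_zero.1 hr0.symm)
  have hinj : ∀ x, S x = 0 → x = 0 := fun x hx => heig 0 hr00 x (by rw [hx, zero_smul])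
  obtain ⟨P, hP⟩ : ∃ P : End F ((F × F) × (W × W)), P = (M (s • (1 : End F F))).prodMap (M S) := ⟨_, rfl⟩
  obtain ⟨A₁, hA₁⟩ : ∃ P : End F ((F × F) × (W × W)), P = (A (s • (1 : End F F))).prodMap (A S) := ⟨_, rfl⟩
  obtain ⟨U₁, hU₁⟩ : ∃ P : End F ((F × F) × (W × W)), P = (U : End F (F × F)).prodMap (U : End F (W × W)) :=
    ⟨_, rfl⟩
  obtain ⟨E₁, hE₁⟩ : ∃ P : End F ((F × F) × (W × W)), P = (E (s • (1 : End F F)) 1).prodMap (E S k) :=
    ⟨_, rfl⟩
  have hAU : A₁ * U₁ = P := by rw [hA₁, hU₁, hP]; rfl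
  have hT : (1 + N) = Φ.conj U₁ := by
    refine LinearMap.ext fun x => ?_
    obtain ⟨z, rfl⟩ := Φ.surjective x
    rw [LinearEquiv.conj_apply_apply, LinearEquiv.symm_apply_apply, LinearMap.add_apply,
      Module.End.one_apply, hΦ, ← map_add, hU₁]
    congr 1
    obtain ⟨⟨a, c⟩, x, y⟩ := z
    simp
  have hdetS : LinearMap.det S = (-1) ^ (b - 1) * r.eval 0 := by
    rw [LinearMap.det_eq_sign_charpoly_coeff, hS, hW, coeff_zero_eq_eval_zero]
  have hdetE : LinearMap.det E₁ = 1 := by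
    rw [hE₁, LinearMap.det_prodMap, det_E, det_E, hdetS, hW, finrank_self, LinearMap.det_smul, map_one,
      finrank_self]
    have h1 : k⁻¹ ^ (2 * (b - 1)) * k ^ (2 * (b - 1)) = 1 := by
      rw [← mul_pow, inv_mul_cancel₀ hk, one_pow]
    have h2 : ((-1 : F) ^ (b - 1)) * (-1) ^ (b - 1) = 1 := by rw [← mul_pow]; simp
    simp only [pow_one, inv_one, one_pow, mul_one]
    linear_combination (-(s * r.eval 0 * k⁻¹ ^ (2 * (b - 1)))) * h2 - k⁻¹ ^ (2 * (b - 1)) * hr0 + h1
  -- the two factors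
  have hs1 : SimS (l • (1 + N)) (Φ.conj (l • A₁)) := by
    refine simS_of_det (f := Φ.conj E₁) ?_ fun x => ?_
    · rw [LinearEquiv.conj_apply, LinearMap.comp_assoc, LinearMap.det_conj, hdetE]
    · obtain ⟨z, rfl⟩ := Φ.surjective x
      rw [hT]
      simp only [LinearMap.smul_apply, LinearEquiv.conj_apply_apply, LinearEquiv.symm_apply_apply, map_smul]
      congr 2
      rw [hE₁, hU₁, hA₁]
      exact Prod.ext (E_U _ _ _) (E_U _ _ _)
  have hs2 : SimS (l • (1 + N)) (Φ.conj (l • U₁)) := by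
    rw [map_smul, ← hT]
    exact ⟨LinearEquiv.refl F V, by simp, fun x => rfl⟩
  refine ⟨Φ.conj ((l * l) • P), (l * l) * α, ⟨?_, ?_⟩, [Φ.conj (l • A₁), Φ.conj (l • U₁)], rfl, ?_, ?_⟩
  · -- cyclic
    have h1 : Coc P := by rw [hP]; exact coc_M hφ hs0 hinj (heig s hrs)
    obtain ⟨ψ, hψ⟩ := h1
    have h2 : Coc ((l * l) • P) := by
      refine ⟨ψ, fun Z h3 h4 => hψ Z h3 fun x hx => ?_⟩
      have h5 := Z.smul_mem (l * l)⁻¹ (h4 x hx)
      rwa [LinearMap.smul_apply, smul_smul, inv_mul_cancel₀ (mul_ne_zero hl hl), one_smul] at h5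
    exact Cfsg.Agent.H560.CovC.Coc.of_simG h2 ⟨Φ, fun x => by
      rw [LinearEquiv.conj_apply_apply, LinearEquiv.symm_apply_apply]⟩
  · have h1 : (l * l) • P = ((l * l) • M (s • (1 : End F F))).prodMap ((l * l) • M S) := by
      rw [hP]; rfl
    rw [LinearEquiv.charpoly_conj, h1, LinearMap.charpoly_prodMap, charpoly_line hα hs, mul_assoc]
    refine ⟨_, rfl, ?_⟩
    rw [eval_mul]
    refine mul_ne_zero ?_ fun h => hrs ?_
    · simp only [eval_sub, eval_X, eval_C]
      rw [← mul_sub]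
      exact mul_ne_zero (mul_ne_zero hl hl) (sub_ne_zero.2 hα')
    · have := eval_M S (mul_ne_zero hl hl) hα hs h
      rwa [hS] at this
  · intro B hB
    simp only [List.mem_cons, List.not_mem_nil, or_false] at hB
    rcases hB with rfl | rfl
    · exact hs1
    · exact hs2
  · simp only [List.prod_cons, List.prod_nil, mul_one]
    rw [← hAU]
    refine LinearMap.ext fun x => ?_
    obtain ⟨z, rfl⟩ := Φ.surjective x
    simp only [Module.End.mul_apply, LinearMap.smul_apply, LinearEquiv.conj_apply_apply,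
      LinearEquiv.symm_apply_apply, map_smul, smul_smul]

end Cfsg.Agent.H12.CovP
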