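import Cfsg.Agent.H166.Cov.Defs

/-!
# Regular unipotent elements in dimension three (task Q of the project S2483, helper166)
-/

set_option autoImplicit false

namespace Cfsg.Agent.H12.CovQ

open Module Polynomial Cfsg.Agent.H166.Cov Matrix

universe u

variable {F : Type u} [Field F] {V : Type u} [AddCommGroup V] [Module F V]

/-! ### general lemmas on `SimS` -/

theorem simS_smul {S T : End F V} (h : SimS S T) (c : F) : SimS (c • S) (c • T) := by
  obtain ⟨e, he, h2⟩ := h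
  refine ⟨e, he, fun x => ?_⟩
  simp [h2]

theorem simS_trans {S T U : End F V} (h : SimS S T) (h' : SimS T U) : SimS S U := by
  obtain ⟨e, he, h2⟩ := h
  obtain ⟨e', he', h2'⟩ := h'
  refine ⟨e.trans e', ?_, fun x => ?_⟩
  · rw [show ((e.trans e' : V ≃ₗ[F] V) : V →ₗ[F] V) = (e' : V →ₗ[F] V) * (e : V →ₗ[F] V) from rfl,
      map_mul, he, he', one_mul]
  · simp [h2, h2']

theorem hps_smul {T g : End F V} {k : ℕ} (h : HPS T k g) (c : F) : HPS (c • T) k (c ^ k • g) := by
  obtain ⟨L, h1, h2, h3⟩ := h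
  refine ⟨L.map fun A => c • A, by simp [h1], ?_, ?_⟩
  · intro A hA
    obtain ⟨B, hB, rfl⟩ := List.mem_map.1 hA
    exact simS_smul (h2 B hB) c
  · rw [← h3, ← h1]
    clear h1 h2 h3
    induction L with
    | nil => simp
    | cons A L ih =>
      rw [List.map_cons, List.prod_cons, ih, List.prod_cons, List.length_cons, pow_succ']
      rw [smul_mul_smul_comm]

theorem hps_of_sims {S T g : End F V} {k : ℕ} (h : HPS T k g) (h' : SimS S T) : HPS S k g := by
  obtain ⟨L, h1, h2, h3⟩ := h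
  exact ⟨L, h1, fun A hA => simS_trans h' (h2 A hA), h3⟩

theorem simS_of_matrix (b : Basis (Fin 3) F V) {M N P : Matrix (Fin 3) (Fin 3) F} (hP : P.det = 1)
    (h : P * M = N * P) : SimS (Matrix.toLin b b M) (Matrix.toLin b b N) := by
  have hu : IsUnit (LinearMap.toMatrix b b (Matrix.toLin b b P)).det := by
    rw [LinearMap.toMatrix_toLin, hP]; exact isUnit_one
  refine ⟨LinearEquiv.ofIsUnitDet hu, ?_, fun x => ?_⟩
  · rw [show ((LinearEquiv.ofIsUnitDet hu : V ≃ₗ[F] V) : V →ₗ[F] V) = Matrix.toLin b b P from by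
      ext x; simp, LinearMap.det_toLin, hP]
  · show Matrix.toLin b b P (Matrix.toLin b b M x) = Matrix.toLin b b N (Matrix.toLin b b P x)
    have h1 := congrArg (fun A => Matrix.toLin b b A x) h
    simpa only [Matrix.toLin_mul b b b, LinearMap.comp_apply] using h1

/-- change of basis with determinant one -/
theorem simS_toLin (b c : Basis (Fin 3) F V) (h : b.det c = 1) (M : Matrix (Fin 3) (Fin 3) F) :
    SimS (Matrix.toLin b b M) (Matrix.toLin c c M) := by
  refine ⟨b.equiv c (Equiv.refl _), ?_, fun x => ?_⟩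
  · have h1 := Basis.det_comp b ((b.equiv c (Equiv.refl _) : V ≃ₗ[F] V) : V →ₗ[F] V) b
    rw [Basis.det_self, mul_one] at h1
    rw [← h1, ← h]
    congr 1
    ext i
    simp
  · have h2 : ((b.equiv c (Equiv.refl _) : V ≃ₗ[F] V) : V →ₗ[F] V) ∘ₗ Matrix.toLin b b M
        = Matrix.toLin c c M ∘ₗ ((b.equiv c (Equiv.refl _) : V ≃ₗ[F] V) : V →ₗ[F] V) := by
      refine b.ext fun i => ?_
      simp [Matrix.toLin_self]
    exact LinearMap.congr_fun h2 x

/-! ### the matrix computation -/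

/-- the regular unipotent lower triangular matrix -/
def J : Matrix (Fin 3) (Fin 3) F := !![1, 0, 0; 1, 1, 0; 0, 1, 1]

theorem hps_matrix (B : Basis (Fin 3) F V) {a b c d e f : F} (hdet : a * e - d * b = 1) (hd : d ≠ 0)
    (ht : 3 * d + e + a ≠ 2) :
    HPS (Matrix.toLin B B (J : Matrix (Fin 3) (Fin 3) F)) 3
      (Matrix.toLin B B !![d, 0, a; e, 0, b; f, 1, c]) := by
  obtain ⟨t, ht'⟩ : ∃ t, t = 3 * d + e + a := ⟨_, rfl⟩
  have ht2 : t - 2 ≠ 0 := by
    intro h; apply ht; rw [← ht']; linear_combination h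
  obtain ⟨p, hp⟩ : ∃ p : F, p * (d * (t - 2) ^ 2) = -1 := ⟨-1 / (d * (t - 2) ^ 2), by field_simp⟩
  obtain ⟨r, hr⟩ : ∃ r : F, d * (p - r) = 1 := ⟨p - 1 / d, by field_simp; ring⟩
  obtain ⟨ρ, hρ⟩ : ∃ ρ : F, ρ = (f - 3 * d) * (3 * d + e) + (f - 3 * d) + (c - 3 * a) * d
    - t * (f - 3 * d) := ⟨_, rfl⟩
  obtain ⟨s, hs⟩ : ∃ s : F, s = ρ - r - (t - 2) * p := ⟨_, rfl⟩
  obtain ⟨Q, hQ⟩ : ∃ Q : Matrix (Fin 3) (Fin 3) F, Q = !![1, 0, 3 * d + e; 0, 1, f - 3 * d; 0, 0, d] :=
    ⟨_, rfl⟩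
  obtain ⟨Qi, hQi⟩ : ∃ Qi : Matrix (Fin 3) (Fin 3) F,
    Qi = !![1, 0, -(3 * d + e) / d; 0, 1, -(f - 3 * d) / d; 0, 0, 1 / d] := ⟨_, rfl⟩
  have hQQ : Q * Qi = 1 := by
    rw [hQ, hQi]
    ext i j
    fin_cases i <;> fin_cases j <;> simp [Matrix.mul_apply, Fin.sum_univ_three, hd] <;> field_simp <;>
      try ring1
  have hQQ' : Qi * Q = 1 := by
    rw [hQ, hQi]
    ext i j
    fin_cases i <;> fin_cases j <;> simp [Matrix.mul_apply, Fin.sum_univ_three, hd] <;> field_simp <;>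
      try ring1
  obtain ⟨M2, hM2⟩ : ∃ M : Matrix (Fin 3) (Fin 3) F, M = !![0, 0, -1; p, 1, r; 1, 0, 2] := ⟨_, rfl⟩
  obtain ⟨M3, hM3⟩ : ∃ M : Matrix (Fin 3) (Fin 3) F, M = !![1, 0, t - 2; -p, 1, s; 0, 0, 1] := ⟨_, rfl⟩
  obtain ⟨R2, hR2⟩ : ∃ M : Matrix (Fin 3) (Fin 3) F, M = !![1, -1, 0; 0, p, r - p; 0, 1, 0] := ⟨_, rfl⟩
  obtain ⟨R3, hR3⟩ : ∃ M : Matrix (Fin 3) (Fin 3) F, M = !![0, t - 2, 0; 0, s, -p * (t - 2); 1, 0, 0] :=
    ⟨_, rfl⟩
  obtain ⟨A1, hA1⟩ : ∃ M : Matrix (Fin 3) (Fin 3) F, M = !![0, 0, 1; 1, 0, -3; 0, 1, 3] := ⟨_, rfl⟩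
  obtain ⟨P1, hP1⟩ : ∃ M : Matrix (Fin 3) (Fin 3) F, M = !![1, -1, 1; 0, 1, -2; 0, 0, 1] := ⟨_, rfl⟩
  obtain ⟨h, hh⟩ : ∃ M : Matrix (Fin 3) (Fin 3) F,
    M = !![3 * d + e, 0, 3 * a + b; f - 3 * d, 1, c - 3 * a; d, 0, a] := ⟨_, rfl⟩
  have hdQ : Q.det = d := by rw [hQ, Matrix.det_fin_three]; simp
  have d1 : P1.det = 1 := by rw [hP1, Matrix.det_fin_three]; simp
  have d2 : (Q * R2).det = 1 := by
    rw [Matrix.det_mul, hdQ, hR2, Matrix.det_fin_three]; simp; linear_combination hr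
  have d3 : (Q * R3).det = 1 := by
    rw [Matrix.det_mul, hdQ, hR3, Matrix.det_fin_three]; simp; linear_combination -hp
  have e1 : P1 * J = A1 * P1 := by
    rw [hP1, hA1, J]
    ext i j
    fin_cases i <;> fin_cases j <;> simp [Matrix.mul_apply, Fin.sum_univ_three] <;> ring
  have e2 : R2 * J = M2 * R2 := by
    rw [hR2, hM2, J]
    ext i j
    fin_cases i <;> fin_cases j <;> simp [Matrix.mul_apply, Fin.sum_univ_three] <;> ring
  have e3 : R3 * J = M3 * R3 := by
    rw [hR3, hM3, J]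
    ext i j
    fin_cases i <;> fin_cases j <;> simp [Matrix.mul_apply, Fin.sum_univ_three] <;> ring
  have e4 : Q * (M2 * M3) = h * Q := by
    rw [hQ, hM2, hM3, hh]
    ext i j
    fin_cases i <;> fin_cases j <;> simp [Matrix.mul_apply, Fin.sum_univ_three, hs, hρ, ht'] <;>
      first | ring1 | linear_combination hdet | linear_combination -hdet | skip
  have e5 : A1 * h = !![d, 0, a; e, 0, b; f, 1, c] := by
    rw [hA1, hh]
    ext i j
    fin_cases i <;> fin_cases j <;> simp [Matrix.mul_apply, Fin.sum_univ_three] <;> ring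
  have hprod : A1 * ((Q * M2 * Qi) * (Q * M3 * Qi)) = !![d, 0, a; e, 0, b; f, 1, c] := by
    rw [← e5]
    congr 1
    calc (Q * M2 * Qi) * (Q * M3 * Qi) = Q * M2 * (Qi * Q) * M3 * Qi := by noncomm_ring
      _ = Q * (M2 * M3) * Qi := by rw [hQQ']; noncomm_ring
      _ = h * (Q * Qi) := by rw [e4]; noncomm_ring
      _ = h := by rw [hQQ, mul_one]
  refine ⟨[Matrix.toLin B B A1, Matrix.toLin B B (Q * M2 * Qi), Matrix.toLin B B (Q * M3 * Qi)], rfl, ?_, ?_⟩
  · intro A hA
    simp only [List.mem_cons, List.not_mem_nil, or_false] at hA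
    rcases hA with rfl | rfl | rfl
    · exact simS_of_matrix B d1 e1
    · refine simS_of_matrix B d2 ?_
      calc Q * R2 * J = Q * (R2 * J) := by noncomm_ring
        _ = Q * M2 * 1 * R2 := by rw [e2]; noncomm_ring
        _ = Q * M2 * Qi * (Q * R2) := by rw [← hQQ']; noncomm_ring
    · refine simS_of_matrix B d3 ?_
      calc Q * R3 * J = Q * (R3 * J) := by noncomm_ring
        _ = Q * M3 * 1 * R3 := by rw [e3]; noncomm_ring
        _ = Q * M3 * Qi * (Q * R3) := by rw [← hQQ']; noncomm_ring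
  · rw [← hprod]
    simp only [List.prod_cons, List.prod_nil, mul_one]
    rw [show Matrix.toLin B B (A1 * ((Q * M2 * Qi) * (Q * M3 * Qi))) =
        Matrix.toLin B B A1 * Matrix.toLin B B ((Q * M2 * Qi) * (Q * M3 * Qi)) from
        Matrix.toLin_mul B B B _ _,
      show Matrix.toLin B B ((Q * M2 * Qi) * (Q * M3 * Qi)) =
        Matrix.toLin B B (Q * M2 * Qi) * Matrix.toLin B B (Q * M3 * Qi) from
        Matrix.toLin_mul B B B _ _]

theorem hps_conj {T g g' : End F V} {k : ℕ} (h : HPS T k g) (h' : SimS g g') : HPS T k g' := by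
  obtain ⟨L, h1, h2, h3⟩ := h
  obtain ⟨e, he, hg⟩ := h'
  refine ⟨L.map fun A => ((e : V →ₗ[F] V) * A * (e.symm : V →ₗ[F] V) : End F V), by simp [h1], ?_, ?_⟩
  · intro A hA
    obtain ⟨B, hB, rfl⟩ := List.mem_map.1 hA
    obtain ⟨f, hf, hf2⟩ := h2 B hB
    refine ⟨f.trans e, ?_, fun x => ?_⟩
    · rw [show ((f.trans e : V ≃ₗ[F] V) : V →ₗ[F] V) = (e : V →ₗ[F] V) * (f : V →ₗ[F] V) from rfl,
        map_mul, he, hf, one_mul]
    · simp [hf2]
  · have key : (L.map fun A => ((e : V →ₗ[F] V) * A * (e.symm : V →ₗ[F] V) : End F V)).prod =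
        (e : V →ₗ[F] V) * L.prod * (e.symm : V →ₗ[F] V) := by
      clear h1 h2 h3 hg he
      induction L with
      | nil => ext x; simp
      | cons A L ih =>
        rw [List.map_cons, List.prod_cons, ih, List.prod_cons]
        ext x
        simp
    rw [key, h3]
    ext x
    simp [hg]

theorem hps_matrix' (B : Basis (Fin 3) F V) {a b c d e f : F} (hdet : a * e - d * b = 1) :
    HPS (Matrix.toLin B B (J : Matrix (Fin 3) (Fin 3) F)) 3
      (Matrix.toLin B B !![d, 0, a; e, 0, b; f, 1, c]) := by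
  -- choose `β` with `d + β a ≠ 0`
  obtain ⟨β, hβ⟩ : ∃ β : F, d + β * a ≠ 0 := by
    by_cases hd : d = 0
    · refine ⟨1, fun h => ?_⟩
      have ha : a = 0 := by rw [hd] at h; simpa using h
      rw [ha, hd] at hdet
      simp at hdet
    · exact ⟨0, by simpa using hd⟩
  obtain ⟨α, hα⟩ : ∃ α : F, 3 * (d + β * a) + (e + β * b - α * (d + β * a)) + a ≠ 2 := by
    by_cases h0 : 3 * (d + β * a) + (e + β * b) + a = 2
    · refine ⟨1, fun h => hβ ?_⟩
      linear_combination h0 - h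
    · exact ⟨0, by simpa using h0⟩
  have hd' : a * (e + β * b - α * (d + β * a)) - (d + β * a) * (b - α * a) = 1 := by
    linear_combination hdet
  refine hps_conj (hps_matrix B (f := f + α + β * c - β * (d + β * a)) (c := c - β * a) hd' hβ hα) ?_
  refine simS_of_matrix B (P := !![1, 0, 0; α, 1, 0; β, 0, 1]) ?_ ?_
  · rw [Matrix.det_fin_three]; simp
  · ext i j
    fin_cases i <;> fin_cases j <;> simp [Matrix.mul_apply, Fin.sum_univ_three] <;> ring

/-! ### the adapted basis of a regular unipotent element -/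

theorem nilp_of [FiniteDimensional F V] {T : End F V} {l : F} (hl : l ≠ 0)
    (hc : LinearMap.charpoly T = (X - C l) ^ 3) : (l⁻¹ • T - 1 : End F V) ^ 3 = 0 := by
  have h1 : (T - l • (1 : End F V)) ^ 3 = 0 := by
    have h2 := LinearMap.aeval_self_charpoly T
    rw [hc] at h2
    simpa [Algebra.algebraMap_eq_smul_one] using h2
  have h3 : (l⁻¹ • T - 1 : End F V) = l⁻¹ • (T - l • (1 : End F V)) := by
    rw [smul_sub, smul_smul, inv_mul_cancel₀ hl, one_smul]
  rw [h3, _root_.smul_pow, h1, smul_zero]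

theorem sq_ne_zero_of [FiniteDimensional F V] (hV : finrank F V = 3) {T : End F V} {l : F}
    (hl : l ≠ 0) (hT : Coc T) : (l⁻¹ • T - 1 : End F V) ^ 2 ≠ 0 := by
  intro h0
  obtain ⟨φ, hφ⟩ := hT
  have hTT : ∀ x, T (T x) = (2 * l) • T x - (l * l) • x := by
    intro x
    have h1 := LinearMap.congr_fun h0 x
    have h2 : (l⁻¹ • T - 1 : End F V) ((l⁻¹ • T - 1 : End F V) x) = 0 := by
      rw [pow_two] at h1
      exact h1
    simp only [LinearMap.sub_apply, LinearMap.smul_apply, Module.End.one_apply, map_sub, map_smul] at h2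
    have h3 : (l * l) • (l⁻¹ • (l⁻¹ • T (T x) - T x) - (l⁻¹ • T x - x)) = 0 := by rw [h2, smul_zero]
    have h4 : (l * l) • (l⁻¹ • (l⁻¹ • T (T x) - T x) - (l⁻¹ • T x - x)) =
        T (T x) - ((2 * l) • T x - (l * l) • x) := by
      simp only [smul_sub, smul_smul]
      rw [show l * l * (l⁻¹ * l⁻¹) = 1 by field_simp, show l * l * l⁻¹ = l by field_simp, one_smul,
        two_mul, add_smul]
      abel
    rw [h4] at h3
    exact sub_eq_zero.1 h3
  have hker := LinearMap.ker_ne_bot_of_finrank_lt (f := (φ.prod (φ ∘ₗ T) : V →ₗ[F] F × F))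
    (by rw [finrank_prod, finrank_self, hV]; norm_num)
  apply hker
  apply hφ
  · intro x hx
    have h5 : ((φ x, φ (T x)) : F × F) = 0 := LinearMap.mem_ker.1 hx
    exact (Prod.mk_eq_zero.1 h5).1
  · intro x hx
    have h5 : ((φ x, φ (T x)) : F × F) = 0 := LinearMap.mem_ker.1 hx
    obtain ⟨h6, h7⟩ := Prod.mk_eq_zero.1 h5
    refine LinearMap.mem_ker.2 ?_
    show ((φ (T x), φ (T (T x))) : F × F) = 0
    rw [hTT, map_sub, map_smul, map_smul, h6, h7]
    simp

theorem exists_basis_J [FiniteDimensional F V] (hV : finrank F V = 3) {N : End F V}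
    (h3 : N ^ 3 = 0) (h2 : N ^ 2 ≠ 0) :
    ∃ b : Basis (Fin 3) F V, N (b 0) = b 1 ∧ N (b 1) = b 2 ∧ N (b 2) = 0 := by
  obtain ⟨v, hv⟩ : ∃ v, (N ^ 2) v ≠ 0 := by
    by_contra h
    push Not at h
    exact h2 (LinearMap.ext h)
  have hv' : N (N v) ≠ 0 := by simpa [pow_two] using hv
  have hN3 : N (N (N v)) = 0 := by
    have := LinearMap.congr_fun h3 v
    simpa [pow_succ] using this
  have hli : LinearIndependent F ![v, N v, N (N v)] := by
    rw [Fintype.linearIndependent_iff]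
    intro g hg
    simp only [Fin.sum_univ_three, Matrix.cons_val_zero, Matrix.cons_val_one, Matrix.cons_val] at hg
    have e0 : g 0 = 0 := by
      have h4 := congrArg (fun x => N (N x)) hg
      simp only [map_add, map_smul, hN3, map_zero, smul_zero, add_zero] at h4
      exact (smul_eq_zero.1 h4).resolve_right hv'
    have e1 : g 1 = 0 := by
      have h4 := congrArg (fun x => N x) hg
      simp only [map_add, map_smul, hN3, map_zero, smul_zero, add_zero, e0, zero_smul, zero_add] at h4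
      exact (smul_eq_zero.1 h4).resolve_right hv'
    have e2 : g 2 = 0 := by
      rw [e0, e1, zero_smul, zero_smul, zero_add, zero_add] at hg
      exact (smul_eq_zero.1 hg).resolve_right hv'
    intro i
    fin_cases i
    · exact e0
    · exact e1
    · exact e2
  refine ⟨basisOfLinearIndependentOfCardEqFinrank hli (by simp [hV]), ?_, ?_, ?_⟩ <;>
    simp [hN3]

/-- the matrix of `1 + N` in the adapted basis -/
theorem one_add_eq (b : Basis (Fin 3) F V) {N : End F V} (h0 : N (b 0) = b 1) (h1 : N (b 1) = b 2)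
    (h2 : N (b 2) = 0) : 1 + N = Matrix.toLin b b (J : Matrix (Fin 3) (Fin 3) F) := by
  refine b.ext fun i => ?_
  rw [Matrix.toLin_self]
  fin_cases i <;> simp [J, Fin.sum_univ_three, h0, h1, h2]

/-! ### the adapted basis of a non-scalar element -/

theorem exists_basis_g [FiniteDimensional F V] (hV : finrank F V = 3) (b : Basis (Fin 3) F V)
    {g : End F V} (hg : NS g) : ∃ c : Basis (Fin 3) F V, b.det c = 1 ∧ g (c 1) = c 2 := by
  obtain ⟨v, hv⟩ : ∃ v, LinearIndependent F ![v, g v] := by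
    by_contra h
    push Not at h
    obtain ⟨a, ha⟩ := LinearMap.exists_eq_smul_id_of_forall_notLinearIndependent h
    exact hg a ha
  have hne : Submodule.span F (Set.range ![v, g v]) ≠ ⊤ := by
    intro h
    have h1 := finrank_span_eq_card hv
    rw [h, finrank_top, hV] at h1
    simp at h1
  obtain ⟨y, hy⟩ : ∃ y, y ∉ Submodule.span F (Set.range ![v, g v]) := by
    by_contra h
    push Not at h
    exact hne (eq_top_iff.2 fun x _ => h x)
  have hli : LinearIndependent F ![y, v, g v] := linearIndependent_finCons.2 ⟨hv, hy⟩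
  let c₀ := basisOfLinearIndependentOfCardEqFinrank hli (by simp [hV])
  have hc₀ : ⇑c₀ = ![y, v, g v] := coe_basisOfLinearIndependentOfCardEqFinrank _ _
  have hd : b.det c₀ ≠ 0 := (b.isUnit_det c₀).ne_zero
  let w : Fin 3 → Fˣ := ![(Units.mk0 _ hd)⁻¹, 1, 1]
  refine ⟨c₀.unitsSMul w, ?_, ?_⟩
  · have h1 : ⇑(c₀.unitsSMul w) = Function.update (⇑c₀) 0 ((b.det c₀)⁻¹ • c₀ 0) := by
      ext i
      fin_cases i
      · simp [w, Basis.unitsSMul_apply, Units.smul_def]
      · simp [w, Basis.unitsSMul_apply]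
      · simp [w, Basis.unitsSMul_apply]
    rw [h1, AlternatingMap.map_update_smul, Function.update_eq_self, smul_eq_mul, inv_mul_cancel₀ hd]
  · simp [w, Basis.unitsSMul_apply, hc₀]

theorem hps_core [FiniteDimensional F V] (hV : finrank F V = 3) {N : End F V}
    (h3 : N ^ 3 = 0) (h2 : N ^ 2 ≠ 0) {g : End F V} (hg : NS g) (hdet : LinearMap.det g = 1) :
    HPS (1 + N) 3 g := by
  obtain ⟨b, b0, b1, b2⟩ := exists_basis_J hV h3 h2
  rw [one_add_eq b b0 b1 b2]
  obtain ⟨c, hc, hgc⟩ := exists_basis_g hV b hg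
  refine hps_of_sims ?_ (simS_toLin b c hc _)
  obtain ⟨M, hM⟩ : ∃ M, M = LinearMap.toMatrix c c g := ⟨_, rfl⟩
  have hM' : M = !![M 0 0, 0, M 0 2; M 1 0, 0, M 1 2; M 2 0, 1, M 2 2] := by
    have h4 : ∀ i, M i 1 = c.repr (c 2) i := fun i => by
      rw [hM, LinearMap.toMatrix_apply, hgc]
    ext i j
    fin_cases i <;> fin_cases j <;> simp [h4]
  have hg' : g = Matrix.toLin c c M := by rw [hM, Matrix.toLin_toMatrix]
  have hdM : M.det = 1 := by rw [hM, LinearMap.det_toMatrix, hdet]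
  rw [hg', hM']
  apply hps_matrix'
  rw [hM', Matrix.det_fin_three] at hdM
  simp at hdM
  linear_combination hdM

/-- **task Q, first part** -/
theorem hps_three [Finite F] (hq : 4 ≤ Nat.card F) [FiniteDimensional F V] (hV : finrank F V = 3)
    {T : End F V} {l : F} (hl : l ≠ 0) (hT : Coc T) (hc : LinearMap.charpoly T = (X - C l) ^ 3)
    {g : End F V} (hg : NS g) (hdet : LinearMap.det g = LinearMap.det T ^ 3) : HPS T 3 g := by
  have h3 := nilp_of hl hc
  have h2 := sq_ne_zero_of hV hl hT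
  have hdT : LinearMap.det T = l ^ 3 := by
    rw [LinearMap.det_eq_sign_charpoly_coeff, hc, hV]
    rw [coeff_zero_eq_eval_zero]
    simp
    ring
  have hg' : NS ((l⁻¹) ^ 3 • g) := by
    intro c hc'
    apply hg (l ^ 3 * c)
    rw [← smul_smul, ← hc', smul_smul, ← mul_pow, mul_inv_cancel₀ hl, one_pow, one_smul]
  have hd' : LinearMap.det ((l⁻¹) ^ 3 • g) = 1 := by
    rw [LinearMap.det_smul, hV, hdet, hdT]
    field_simp
  have h4 := hps_smul (hps_core hV h3 h2 hg' hd') l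
  have e1 : l • (1 + (l⁻¹ • T - 1) : End F V) = T := by
    rw [add_sub_cancel, smul_smul, mul_inv_cancel₀ hl, one_smul]
  have e2 : l ^ 3 • (l⁻¹ ^ 3 • g) = g := by
    rw [smul_smul, ← mul_pow, mul_inv_cancel₀ hl, one_pow, one_smul]
  rwa [e1, e2] at h4

theorem hps_core_one [FiniteDimensional F V] (hV : finrank F V = 3) {N : End F V}
    (h3 : N ^ 3 = 0) (h2 : N ^ 2 ≠ 0) {r : F} (hr : r ≠ 0) (hr1 : r + 1 ≠ 0) :
    HPS (1 + N) 3 (1 : End F V) := by
  obtain ⟨b, b0, b1, b2⟩ := exists_basis_J hV h3 h2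
  have hN3 : N * (N * N) = 0 := by rw [← h3, pow_succ, pow_two, mul_assoc]
  obtain ⟨c, hc⟩ : ∃ c, c = -(r + 1) := ⟨_, rfl⟩
  have hc0 : c ≠ 0 := by rw [hc]; exact neg_ne_zero.2 hr1
  -- the three factors are `1 + N`, `1 + r N` and `1 + c N + d N²`
  obtain ⟨d, hd⟩ : ∃ d : F, d = (r + 1) ^ 2 - r := ⟨_, rfl⟩
  have e1 : (1 + N) = Matrix.toLin b b (J : Matrix (Fin 3) (Fin 3) F) := one_add_eq b b0 b1 b2
  have key : ∀ s t : F, s ≠ 0 → SimS (1 + N) (1 + s • N + t • (N * N)) := by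
    intro s t hs
    have e2 : (1 + s • N + t • (N * N)) =
        Matrix.toLin b b (!![1, 0, 0; s, 1, 0; t, s, 1] : Matrix (Fin 3) (Fin 3) F) := by
      refine b.ext fun i => ?_
      rw [Matrix.toLin_self]
      fin_cases i <;> simp [Fin.sum_univ_three, b0, b1, b2]
    rw [e1, e2]
    refine simS_of_matrix b (P := !![s⁻¹, 0, 0; 0, 1, 0; 0, s⁻¹ * t, s]) ?_ ?_
    · rw [Matrix.det_fin_three]; simp [hs]
    · ext i j
      fin_cases i <;> fin_cases j <;> simp [Matrix.mul_apply, Fin.sum_univ_three, J, hs] <;> ring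
  refine ⟨[1 + N, 1 + r • N, 1 + c • N + d • (N * N)], rfl, ?_, ?_⟩
  · intro A hA
    simp only [List.mem_cons, List.not_mem_nil, or_false] at hA
    rcases hA with rfl | rfl | rfl
    · have := key 1 0 one_ne_zero
      simpa using this
    · have := key r 0 hr
      simpa using this
    · exact key c d hc0
  · simp only [List.prod_cons, List.prod_nil, mul_one]
    have h5 : N * (N * (N * N)) = 0 := by rw [hN3, mul_zero]
    have h6 : (1 + N) * ((1 + r • N) * (1 + c • N + d • (N * N))) =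
        1 + (1 + r + c) • N + (r + c + r * c + d) • (N * N) + (r * c + d + r * d) • (N * (N * N))
          + (r * d) • (N * (N * (N * N))) := by
      simp only [mul_add, add_mul, mul_one, one_mul, smul_mul_assoc, mul_smul_comm]
      module
    rw [h6, h5, hN3, show 1 + r + c = 0 by rw [hc]; ring, show r + c + r * c + d = 0 by rw [hc, hd]; ring]
    simp

theorem exists_ne_zero_ne [Finite F] (hq : 4 ≤ Nat.card F) : ∃ r : F, r ≠ 0 ∧ r + 1 ≠ 0 := by
  classical
  have := Fintype.ofFinite F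
  by_contra h
  push Not at h
  have h1 : (Finset.univ : Finset F) ⊆ {0, -1} := by
    intro x _
    by_cases hx : x = 0
    · simp [hx]
    · have := h x hx
      have : x = -1 := by linear_combination this
      simp [this]
  have h2 := Finset.card_le_card h1
  rw [Finset.card_univ, ← Nat.card_eq_fintype_card] at h2
  have h3 : ({0, -1} : Finset F).card ≤ 2 := Finset.card_le_two
  omega

/-- **task Q, second part** -/
theorem hps_three_scalar [Finite F] (hq : 4 ≤ Nat.card F) [FiniteDimensional F V]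
    (hV : finrank F V = 3) {T : End F V} {l : F} (hl : l ≠ 0) (hT : Coc T)
    (hc : LinearMap.charpoly T = (X - C l) ^ 3) : HPS T 3 (l ^ 3 • (1 : End F V)) := by
  have h3 := nilp_of hl hc
  have h2 := sq_ne_zero_of hV hl hT
  obtain ⟨r, hr, hr1⟩ := exists_ne_zero_ne hq
  have h4 := hps_smul (hps_core_one hV h3 h2 hr hr1) l
  have e1 : l • (1 + (l⁻¹ • T - 1) : End F V) = T := by
    rw [add_sub_cancel, smul_smul, mul_inv_cancel₀ hl, one_smul]
  rwa [e1] at h4

end Cfsg.Agent.H12.CovQ
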