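import Cfsg.Agent.H744.EssRad
import Cfsg.Agent.H752.Mp
import Cfsg.Agent.H802.FusSub

/-!
# Frattini extension of an inverting automorphism; p-elements of `Aut_F(S)` are inner (helper12, for S5228)
-/

set_option autoImplicit false

namespace Cfsg.Agent.H12.FusFr

open Subgroup Cfsg Cfsg.FusionSystem Cfsg.Agent.H752 Cfsg.Agent.H802

theorem isFullyNormalized_of_normal {Ω : Type*} [Group Ω] {S : Subgroup Ω} [Finite S]
    {F : FusionSystem S} {E : Subgroup Ω} (hES : E ≤ S)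
    (hEn : ∀ s ∈ S, ∀ x ∈ E, s * x * s⁻¹ ∈ E) : F.IsFullyNormalized E ∧ normalizerIn S E = S := by
  have h1 : normalizerIn S E = S := by
    refine le_antisymm inf_le_left fun s hs => ⟨hs, ?_⟩
    refine Subgroup.mem_normalizer_iff.2 ?_
    intro x
    refine ⟨fun hx => hEn s hs x hx, fun hx => ?_⟩
    have := hEn s⁻¹ (inv_mem hs) _ hx
    have h2 : s⁻¹ * (s * x * s⁻¹) * s⁻¹⁻¹ = x := by group
    rwa [h2] at this
  refine ⟨⟨hES, fun Q _ => ?_⟩, h1⟩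
  rw [h1]
  exact Subgroup.card_le_of_le inf_le_left

theorem frattini_ext {Ω : Type*} [Group Ω] {S : Subgroup Ω} [Finite S] {p : ℕ} [Fact p.Prime] (hS : IsPGroup p S)
    {F : FusionSystem S} (hF : F.IsSaturated p) {E U : Subgroup Ω} (hES : E ≤ S)
    (hEn : ∀ s ∈ S, ∀ x ∈ E, s * x * s⁻¹ ∈ E) (hUE : U ≤ E)
    (hUA : ∀ f : Ω → Ω, Mp F E f → (∀ x ∈ E, f x ∈ E) → ∀ x ∈ U, f x ∈ U)
    (M : Set (Ω → Ω)) (hM : ∀ f ∈ M, Mp F E f ∧ ∀ x ∈ E, f x ∈ E)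
    (hMc : ∀ f ∈ M, ∀ g ∈ M, (fun x => f (g x)) ∈ M) (hMe : ∀ f ∈ M, ∀ g : Ω → Ω, (∀ x ∈ E, g x = f x) → g ∈ M)
    (hMi : ∀ f ∈ M, ∃ g ∈ M, ∀ x ∈ E, g (f x) = x ∧ f (g x) = x)
    (hMn : ∀ f ∈ M, ∀ a b : Ω → Ω, Mp F E a → Mp F E b → (∀ x ∈ E, a x ∈ E) → (∀ x ∈ E, b x ∈ E) →
      (∀ x ∈ E, b (a x) = x ∧ a (b x) = x) → (fun x => a (f (b x))) ∈ M)
    {m : Ω → Ω} (hm : m ∈ M) (hmU : ∀ x ∈ U, m x = x⁻¹) :
    ∃ j : Ω → Ω, Mp F S j ∧ j ∈ M ∧ ∀ x ∈ U, j x = x⁻¹ := by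
  have hfinE : Finite E := finite_of_le hES
  obtain ⟨hfn, hNS⟩ := isFullyNormalized_of_normal (F := F) hES hEn
  have hfa := isFullyAutomized_of_isFullyNormalized hS hF hfn
  have hrec := isReceptive_of_isFullyNormalized hS hF hfn
  have hB := hfa.2
  -- the function of an automorphism
  let fn : MulAut E → Ω → Ω := fun α => ex fun x => ((α x : E) : Ω)
  have fn_apply : ∀ (α : MulAut E) (x : Ω) (hx : x ∈ E), fn α x = (α ⟨x, hx⟩ : E) :=
    fun α x hx => ex_apply _ hx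
  have fn_mem : ∀ (α : MulAut E) (x : Ω), x ∈ E → fn α x ∈ E := fun α x hx => by
    rw [fn_apply α x hx]; exact (α ⟨x, hx⟩).2
  have fn_mp : ∀ α ∈ F.autGroup E, Mp F E (fn α) := fun α hα => (mp_iff_autGroup hES α).1 hα
  have fn_mul : ∀ (α β : MulAut E) (x : Ω), x ∈ E → fn (α * β) x = fn α (fn β x) := by
    intro α β x hx
    have h1 : fn β x = ((β ⟨x, hx⟩ : E) : Ω) := fn_apply β x hx
    rw [h1, fn_apply (α * β) x hx, fn_apply α _ (β ⟨x, hx⟩).2]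
    rfl
  have fn_one : ∀ x : Ω, x ∈ E → fn 1 x = x := by
    intro x hx
    rw [fn_apply 1 x hx]
    rfl
  -- the membership in M as a property of automorphisms
  have hMul : ∀ α β : MulAut E, fn α ∈ M → fn β ∈ M → fn (α * β) ∈ M := fun α β hα hβ =>
    hMe _ (hMc _ hα _ hβ) _ (fun x hx => fn_mul α β x hx)
  have hInv : ∀ α : MulAut E, fn α ∈ M → fn α⁻¹ ∈ M := by
    intro α hα
    obtain ⟨g, hg, hgx⟩ := hMi _ hα
    refine hMe g hg _ fun x hx => ?_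
    have h1 : fn α (fn α⁻¹ x) = x := by
      rw [← fn_mul α α⁻¹ x hx, mul_inv_cancel, fn_one x hx]
    have h2 : fn α (g x) = x := (hgx x hx).2
    have hgE : g x ∈ E := (hM g hg).2 x hx
    exact (hM _ hα).1.inj (fn_mem _ _ hx) hgE (h1.trans h2.symm)
  have hOne : fn 1 ∈ M := by
    obtain ⟨g, hg, hgx⟩ := hMi _ hm
    exact hMe _ (hMc _ hg _ hm) _ fun x hx => (fn_one x hx).trans (hgx x hx).1.symm
  have hConj : ∀ α : MulAut E, fn α ∈ M → ∀ β ∈ F.autGroup E, fn (β * α * β⁻¹) ∈ M := by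
    intro α hα β hβ
    refine hMe _ (hMn _ hα (fn β) (fn β⁻¹) (fn_mp β hβ) (fn_mp _ (inv_mem hβ)) (fn_mem β) (fn_mem _)
      fun x hx => ⟨?_, ?_⟩) _ fun x hx => ?_
    · rw [← fn_mul _ _ x hx, inv_mul_cancel, fn_one x hx]
    · rw [← fn_mul _ _ x hx, mul_inv_cancel, fn_one x hx]
    · rw [fn_mul _ _ x hx, fn_mul _ _ _ (fn_mem _ _ hx)]
  have hAut : ∀ α : MulAut E, fn α ∈ M → α ∈ F.autGroup E := fun α hα =>
    (mp_iff_autGroup hES α).2 (hM _ hα).1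
  -- U is invariant
  have hUinv : ∀ α ∈ F.autGroup E, ∀ x ∈ U, fn α x ∈ U := fun α hα x hx =>
    hUA _ (fn_mp α hα) (fn_mem α) x hx
  -- m as an automorphism
  obtain ⟨μ, hμA, hμ⟩ := (hM m hm).1.exists_aut (hM m hm).2
  have hμM : fn μ ∈ M := hMe m hm _ fun x hx => by rw [fn_apply μ x hx, hμ x hx]
  have hμU : ∀ x ∈ U, fn μ x = x⁻¹ := fun x hx => by
    rw [fn_apply μ x (hUE hx), ← hμ x (hUE hx), hmU x hx]
  have hμinvU : ∀ x ∈ U, fn μ⁻¹ x = x⁻¹ := by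
    intro x hx
    have h1 : fn μ⁻¹ (fn μ x⁻¹) = x⁻¹ := by
      rw [← fn_mul _ _ _ (hUE (inv_mem hx)), inv_mul_cancel, fn_one _ (hUE (inv_mem hx))]
    rw [hμU _ (inv_mem hx), inv_inv] at h1
    exact h1
  -- the subgroup K
  let K : Subgroup (MulAut E) :=
    { carrier := {α | fn α ∈ M ∧ ∀ x ∈ U, fn α x = x}
      mul_mem' := by
        rintro α β ⟨ha, ha'⟩ ⟨hb, hb'⟩
        refine ⟨hMul α β ha hb, fun x hx => ?_⟩
        rw [fn_mul _ _ x (hUE hx), hb' x hx, ha' x hx]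
      one_mem' := ⟨hOne, fun x hx => fn_one x (hUE hx)⟩
      inv_mem' := by
        rintro α ⟨ha, ha'⟩
        refine ⟨hInv α ha, fun x hx => ?_⟩
        conv_lhs => rw [← ha' x hx]
        rw [← fn_mul _ _ x (hUE hx), inv_mul_cancel, fn_one x (hUE hx)] }
  have hKmem : ∀ α, α ∈ K ↔ fn α ∈ M ∧ ∀ x ∈ U, fn α x = x := fun α => Iff.rfl
  have hKA : K ≤ F.autGroup E := fun α hα => hAut α ((hKmem α).1 hα).1
  have hKn : ∀ a ∈ F.autGroup E, ∀ k ∈ K, a * k * a⁻¹ ∈ K := by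
    intro a ha k hk
    obtain ⟨hk1, hk2⟩ := (hKmem k).1 hk
    refine (hKmem _).2 ⟨hConj k hk1 a ha, fun x hx => ?_⟩
    have hxE := hUE hx
    have h1 : fn a⁻¹ x ∈ U := hUinv _ (inv_mem ha) x hx
    rw [fn_mul _ _ x hxE, fn_mul _ _ _ (fn_mem _ _ hxE), hk2 _ h1, ← fn_mul _ _ x hxE,
      mul_inv_cancel, fn_one x hxE]
  -- H = μ B μ⁻¹
  set B := autInducedBy S E with hBdef
  have hBA : B ≤ F.autGroup E := autInducedBy_le_autGroup F hES
  have hBp : IsPGroup p B := isPGroup_autInducedBy hS E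
  let H : Subgroup (MulAut E) := B.map (MulAut.conj μ).toMonoidHom
  have hHp : IsPGroup p H := hBp.map _
  have hle : ∀ h ∈ H, ∃ k ∈ K, ∃ b ∈ B, b ∈ F.autGroup E ∧ h = k * b := by
    rintro _ ⟨b, hb, rfl⟩
    refine ⟨μ * (b * μ⁻¹ * b⁻¹), ?_, b, hb, hBA hb, ?_⟩
    · refine (hKmem _).2 ⟨hMul _ _ hμM (hConj _ (hInv _ hμM) b (hBA hb)), fun x hx => ?_⟩
      have hxE := hUE hx
      have h1 : fn b⁻¹ x ∈ U := hUinv _ (inv_mem (hBA hb)) x hx
      have h2 : fn (b * μ⁻¹ * b⁻¹) x = x⁻¹ := by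
        rw [fn_mul _ _ x hxE, fn_mul _ _ _ (fn_mem _ _ hxE), hμinvU _ h1,
          ← (fn_mp b⁻¹ (inv_mem (hBA hb))).inv hxE, ← fn_mul _ _ _ (inv_mem hxE), mul_inv_cancel,
          fn_one _ (inv_mem hxE)]
      rw [fn_mul _ _ x hxE, h2, hμU _ (inv_mem hx), inv_inv]
    · show μ * b * μ⁻¹ = _
      group
  obtain ⟨c, hc, hcB⟩ := H759.exists_conj_le_of_le_sup' (A := F.autGroup E) B hB K hKA hKn H hHp hle
  obtain ⟨hc1, hc2⟩ := (hKmem c).1 hc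
  have hj0 : ∀ δ ∈ B, (c * μ) * δ * (c * μ)⁻¹ ∈ B := by
    intro δ hδ
    have h1 := hcB (μ * δ * μ⁻¹) ⟨δ, hδ, rfl⟩
    have h2 : (c * μ) * δ * (c * μ)⁻¹ = c * (μ * δ * μ⁻¹) * c⁻¹ := by group
    rw [h2]
    exact h1
  have hjA : c * μ ∈ F.autGroup E := mul_mem (hKA hc) hμA
  obtain ⟨ψ, hψ, hψe⟩ := exists_extension_of_normalizes hrec hjA hj0
  have hψM : ∀ x (hx : x ∈ E), ex ψ x = fn (c * μ) x := by
    intro x hx
    have hx' : x ∈ normalizerIn S E := by rw [hNS]; exact hES hx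
    rw [ex_apply ψ hx', hψe x hx hx', fn_apply _ x hx]
  have hMpN : Mp F (normalizerIn S E) (ex ψ) := mp_ex hψ
  have hMpN : Mp F S (ex ψ) := hMpN.res hNS.ge
  refine ⟨ex ψ, hMpN, hMe _ (hMul c μ hc1 hμM) _ hψM, fun x hx => ?_⟩
  rw [hψM x (hUE hx), fn_mul _ _ x (hUE hx), hμU x hx, hc2 _ (inv_mem hx)]

theorem inner_of_pelement {Ω : Type*} [Group Ω] {S : Subgroup Ω} [Finite S] {p : ℕ} [Fact p.Prime] (hS : IsPGroup p S)
    {F : FusionSystem S} (hF : F.IsSaturated p) {g : Ω → Ω} (hg : Mp F S g) (hgp : ∃ k : ℕ, ∀ x ∈ S, g^[p ^ k] x = x) :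
    ∃ s ∈ S, ∀ x ∈ S, g x = s * x * s⁻¹ := by
  obtain ⟨hfn, -⟩ := isFullyNormalized_of_normal (F := F) (E := S) le_rfl
    (fun s hs x hx => mul_mem (mul_mem hs hx) (inv_mem hs))
  obtain ⟨-, R, hR⟩ := isFullyAutomized_of_isFullyNormalized hS hF hfn
  obtain ⟨α, hα, hαg⟩ := hg.exists_aut fun x hx => hg.mem hx
  have hIn : autInducedBy S S = Inn S := by
    refine le_antisymm ?_ (H744.inn_le_autInducedBy le_rfl)
    intro α hα
    obtain ⟨g, hg, h⟩ := (mem_autInducedBy_iff S S α).1 hα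
    exact ⟨⟨g, hg⟩, MulEquiv.ext fun x => Subtype.ext (h x).symm⟩
  have hnorm : ((R : Subgroup (F.autGroup S))).Normal := by
    rw [hR, hIn]
    exact H744.inn_normal F S
  have hpow : ∀ n : ℕ, ∀ (x : Ω) (hx : x ∈ S), g^[n] x = ((α ^ n) ⟨x, hx⟩ : S) := by
    intro n
    induction n with
    | zero => intro x hx; rfl
    | succ n ih =>
      intro x hx
      rw [Function.iterate_succ_apply', ih x hx, hαg _ ((α ^ n) ⟨x, hx⟩).2, pow_succ']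
      rfl
  obtain ⟨k, hk⟩ := hgp
  have hαk : α ^ p ^ k = 1 := by
    apply MulEquiv.ext
    intro x
    apply Subtype.ext
    have := hk x x.2
    rw [hpow _ _ x.2] at this
    exact this
  let a : F.autGroup S := ⟨α, hα⟩
  have hak : a ^ p ^ k = 1 := Subtype.ext hαk
  have hzp : IsPGroup p (Subgroup.zpowers a) := by
    rintro ⟨x, hx⟩
    obtain ⟨n, rfl⟩ := Subgroup.mem_zpowers_iff.1 hx
    refine ⟨k, Subtype.ext ?_⟩
    show (a ^ n) ^ p ^ k = 1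
    rw [← zpow_natCast, ← zpow_mul, mul_comm, zpow_mul, zpow_natCast, hak, one_zpow]
  have hsup : IsPGroup p ↥((R : Subgroup (F.autGroup S)) ⊔ Subgroup.zpowers a) := by
    have h1 := hzp.to_sup_of_normal_right (K := (R : Subgroup (F.autGroup S))) R.isPGroup'
    rwa [sup_comm] at h1
  have hmem : a ∈ (R : Subgroup (F.autGroup S)) := by
    have h2 := R.is_maximal' hsup le_sup_left
    rw [← h2]
    exact Subgroup.mem_sup_right (Subgroup.mem_zpowers a)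
  rw [hR, Subgroup.mem_subgroupOf] at hmem
  obtain ⟨s, hs, h⟩ := (mem_autInducedBy_iff S S α).1 hmem
  exact ⟨s, hs, fun x hx => by rw [hαg x hx, h]⟩

end Cfsg.Agent.H12.FusFr
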