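import Mathlib
import Cfsg.Agent.KFacts.RgdOpp

/-!
# Gauss decompositions with prescribed torus part, I: simple components (helper12)

`R : RGD cs h p T n X`, `J` a set of nodes.

* `UNJ`, `UNe J i` : the negative unipotent group of the Levi subgroup of `J`, its subgroup of elements with
  trivial component at `-α_i`;
* `exists_cell` : for a reduced word `ω` in `J` there is `u ∈ UNJ J` in the cell of `ω` with nontrivial components
  at all letters of `ω`.
-/

set_option autoImplicit false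
set_option linter.unusedSectionVars false

namespace Cfsg.Agent.H12.Gauss

open CoxeterSystem Cfsg.Agent.ChevalleyStructure.CoxeterGeom Cfsg.Agent.Tits.Roots Cfsg.Agent.Tits.Core
  Cfsg.Agent.Tits.RootComb Cfsg.Agent.Tits.Exchange Cfsg.Agent.Nodes.Comb Cfsg.Agent.Nodes.Reps
  Cfsg.Agent.Nodes.BNOf Cfsg.Agent.Nodes.StabComb Cfsg.Agent.Nodes.Bruhat Cfsg.Agent.Nodes.OppDec
  Cfsg.Agent.Nodes.LeviDec Cfsg.Agent.KFacts.RgdOpp
open scoped commutatorElement

variable {I W Y : Type*} [Fintype I] [DecidableEq I] [Group W] [Group Y] {M : CoxeterMatrix I}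
  {cs : CoxeterSystem M W} {A : I → I → ℤ} {h : IsCartan M A} {p : ℕ} {T : Subgroup Y} {n : I → Y}
  {X : (I → ℤ) → Subgroup Y}

/-- the negative roots of `J` -/
def NJ (cs : CoxeterSystem M W) (h : IsCartan M A) (J : Set I) : Set (I → ℤ) := {x | -x ∈ PosJ cs h J}

/-- the negative unipotent group of the Levi subgroup of `J` -/
def UNJ (cs : CoxeterSystem M W) (h : IsCartan M A) (X : (I → ℤ) → Subgroup Y) (J : Set I) : Subgroup Y :=
  RGD.Sup X (NJ cs h J)

/-- the elements of `UNJ` with trivial component at `-α_i` -/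
def UNe (cs : CoxeterSystem M W) (h : IsCartan M A) (X : (I → ℤ) → Subgroup Y) (J : Set I) (i : I) : Subgroup Y :=
  RGD.Sup X (NJ cs h J \ {-sr i})

theorem NJ.isRoot {J : Set I} {x : I → ℤ} (hx : x ∈ NJ cs h J) : IsRoot cs h x := by
  have := hx.1.neg; rwa [neg_neg] at this

theorem NJ.nonpos {J : Set I} {x : I → ℤ} (hx : x ∈ NJ cs h J) : x ≤ 0 := neg_nonneg.1 hx.2.1

theorem NJ.eq_zero {J : Set I} {x : I → ℤ} (hx : x ∈ NJ cs h J) {k : I} (hk : k ∉ J) : x k = 0 := by
  have := hx.2.2 k hk; rwa [Pi.neg_apply, neg_eq_zero] at this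

theorem neg_sr_mem {J : Set I} {i : I} (hi : i ∈ J) : -sr i ∈ NJ cs h J := by
  change - -sr i ∈ PosJ cs h J
  rw [neg_neg]; exact sr_mem_PosJ hi

theorem NJ_mono {J J' : Set I} (hJ : J ⊆ J') : NJ cs h J ⊆ NJ cs h J' :=
  fun _ hx => ⟨hx.1, hx.2.1, fun k hk => hx.2.2 k fun h1 => hk (hJ h1)⟩

theorem NJ_subset {J : Set I} : NJ cs h J ⊆ RootsJ cs h J := fun _ hx => ⟨NJ.isRoot hx, fun _ hk => NJ.eq_zero hx hk⟩

theorem UNe_le {J : Set I} {i : I} : UNe cs h X J i ≤ UNJ cs h X J := RGD.Sup_mono Set.sdiff_subset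

theorem UNJ_le_UN {J : Set I} : UNJ cs h X J ≤ UN cs h X := RGD.Sup_mono fun _ hx => ⟨NJ.isRoot hx, NJ.nonpos hx⟩

theorem UNJ_le_LJ {J : Set I} : UNJ cs h X J ≤ LJ cs h T X J := RGD.Sup_le fun _ hx => X_le_LJ (NJ_subset hx)

theorem UJ_le_LJ {J : Set I} : UJ cs h X J ≤ LJ cs h T X J := le_trans UJ_le_BJ BJ_le_LJ

theorem UNJ_mono {J J' : Set I} (hJ : J ⊆ J') : UNJ cs h X J ≤ UNJ cs h X J' := RGD.Sup_mono (NJ_mono hJ)

theorem X_le_UNJ {J : Set I} {i : I} (hi : i ∈ J) : X (-sr i) ≤ UNJ cs h X J := RGD.le_Sup (neg_sr_mem hi)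

theorem X_le_UNe {J : Set I} {i j : I} (hj : j ∈ J) (hij : i ≠ j) : X (-sr j) ≤ UNe cs h X J i := by
  refine RGD.le_Sup ⟨neg_sr_mem hj, fun e => hij ?_⟩
  have h1 : (sr j : I → ℤ) = sr i := neg_injective e
  by_contra hne
  have h2 := congrFun h1 j
  rw [sr_self, sr_ne (Ne.symm hne)] at h2
  exact one_ne_zero h2

/-- a root `y ≤ 0` other than `-α_i` has a negative coefficient outside `i` -/
theorem exists_coeff_neg {y : I → ℤ} (hy : IsRoot cs h y) (h0 : y ≤ 0) {i : I} (hi : y ≠ -sr i) :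
    ∃ k, k ≠ i ∧ y k < 0 := by
  obtain ⟨k, hk, hk0⟩ := RGD.exists_coeff hy.neg (neg_nonneg.2 h0) (i := i) (fun e => hi (by rw [← e, neg_neg]))
  exact ⟨k, hk, by rw [Pi.neg_apply] at hk0; omega⟩

theorem nonpos_of_neg_apply {x : I → ℤ} (hx : IsRoot cs h x) {k : I} (hk : x k < 0) : x ≤ 0 := by
  rcases hx.pos_or_neg with h1 | h1
  · exact absurd (h1 k) (not_le.2 hk)
  · exact h1

/-- intervals from `± α_i` -/
theorem btwn_mem {J : Set I} {i : I} (hi : i ∈ J) {e : ℤ} {y z : I → ℤ}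
    (hy : y ∈ NJ cs h J \ {-sr i}) (hz : Btwn cs h (e • sr i) y z) : z ∈ NJ cs h J \ {-sr i} := by
  obtain ⟨hzr, m, a, b, hm, ha, hb, he⟩ := hz
  obtain ⟨k, hk, hk0⟩ := exists_coeff_neg (NJ.isRoot hy.1) (NJ.nonpos hy.1) (i := i) hy.2
  have h1 : m * z k = b * y k := by
    have := congrFun he k
    simp only [Pi.smul_apply, Pi.add_apply, smul_eq_mul] at this
    rw [sr_ne hk] at this
    simpa using this
  have h2 : z k < 0 := by
    have : m * z k < 0 := by rw [h1]; exact mul_neg_of_pos_of_neg hb hk0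
    by_contra hcon
    push Not at hcon
    exact absurd (mul_nonneg hm.le hcon) (not_le.2 this)
  have h3 := nonpos_of_neg_apply hzr h2
  refine ⟨⟨hzr.neg, neg_nonneg.2 h3, fun l hl => ?_⟩, ?_⟩
  · have hli : l ≠ i := by rintro rfl; exact hl hi
    have := congrFun he l
    simp only [Pi.smul_apply, Pi.add_apply, smul_eq_mul] at this
    rw [sr_ne hli, NJ.eq_zero hy.1 hl] at this
    simp only [mul_zero, add_zero, mul_eq_zero] at this
    rw [Pi.neg_apply, this.resolve_left (ne_of_gt hm), neg_zero]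
  · intro hzi
    have : z = -sr i := hzi
    rw [this, Pi.neg_apply, sr_ne hk] at h2
    simp at h2

section

variable (R : RGD cs h p T n X)

include R

theorem X_norm {J : Set I} {i : I} (hi : i ∈ J) {e : ℤ} (he : IsRoot cs h (e • sr i : I → ℤ))
    (hne : ∀ y ∈ NJ cs h J \ {-sr i}, (e • sr i : I → ℤ) ≠ -y) :
    X (e • sr i) ≤ Subgroup.normalizer (UNe cs h X J i : Set Y) := by
  refine R.le_normalizer he fun y hy => ⟨NJ.isRoot hy.1, Or.inr ⟨hne y hy, fun z hz => btwn_mem hi hy hz⟩⟩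

theorem X_neg_norm {J : Set I} {i : I} (hi : i ∈ J) :
    X (-sr i) ≤ Subgroup.normalizer (UNe cs h X J i : Set Y) := by
  have h1 := X_norm R hi (e := -1) (by rw [neg_one_smul]; exact (isRoot_sr cs h i).neg) (fun y hy he => by
    rw [neg_one_smul] at he
    have h2 := NJ.nonpos hy.1
    have h3 : y = sr i := by rw [← neg_injective he]
    rw [h3] at h2
    have := h2 i
    rw [sr_self] at this
    simp at this)
  rwa [neg_one_smul] at h1

theorem X_pos_norm {J : Set I} {i : I} (hi : i ∈ J) :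
    X (sr i) ≤ Subgroup.normalizer (UNe cs h X J i : Set Y) := by
  have h1 := X_norm R hi (e := 1) (by rw [one_smul]; exact isRoot_sr cs h i) (fun y hy he => by
    rw [one_smul] at he
    exact hy.2 (by rw [Set.mem_singleton_iff, he, neg_neg]))
  rwa [one_smul] at h1

theorem UN_dec [Finite W] {J : Set I} {i : I} (hi : i ∈ J) {u : Y} (hu : u ∈ UNJ cs h X J) :
    ∃ x ∈ X (-sr i), ∃ r ∈ UNe cs h X J i, u = x * r := by
  have h1 : u ∈ RGD.Sup (fun x => X (-x)) (PosJ cs h J) := by rw [Sup_opp]; exact hu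
  obtain ⟨r, hr, x, hx, e⟩ := exists_mul (opp R) (S := PosJ cs h J) (i := i) (fun x hx => ⟨hx.1, hx.2.1⟩)
    (sr_mem_PosJ hi) (by
      intro y hy hyi z hz
      have h2 : -z ∈ NJ cs h J \ {-sr i} := by
        refine btwn_mem hi (e := -1) (y := -y) ⟨?_, ?_⟩ ?_
        · change - -y ∈ PosJ cs h J; rw [neg_neg]; exact hy
        · intro he; exact hyi (neg_injective he)
        · rw [neg_one_smul]; exact btwn_neg' hz
      have h3 := h2.1
      change - -z ∈ PosJ cs h J at h3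
      rwa [neg_neg] at h3) h1
  have hr' : r ∈ UNe cs h X J i := by
    rw [Sup_opp] at hr
    refine RGD.Sup_mono (fun y hy => ?_) hr
    refine ⟨hy.1, fun he => hy.2 ?_⟩
    have : y = -sr i := he
    rw [Set.mem_singleton_iff, this, neg_neg]
  refine ⟨x, hx, x⁻¹ * r * x, ?_, by rw [e]; group⟩
  have h2 := X_neg_norm R hi hx
  rw [Subgroup.mem_normalizer_iff] at h2
  exact (h2 _).2 (by rw [show x * (x⁻¹ * r * x) * x⁻¹ = r by group]; exact hr')

theorem inter [Finite W] {J : Set I} {i : I} {x : Y} (hx : x ∈ X (-sr i)) (hx' : x ∈ UNe cs h X J i) :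
    x = 1 := by
  have h1 : n i * x * (n i)⁻¹ ∈ X (sr i) := by
    have := R.conj_mem (rp_simple cs R.nsys i) (isRoot_sr cs h i).neg hx
    rwa [map_neg, rep_simple_sr, neg_neg] at this
  have h2 : n i * x * (n i)⁻¹ ∈ UN cs h X := by
    refine conj_mem_Sup R (rp_simple cs R.nsys i) (S := NJ cs h J \ {-sr i}) (fun y hy => NJ.isRoot hy.1) ?_ hx'
    intro y hy
    have h3 : rep cs h (cs.simple i) (-y) ≥ 0 := hy.1.1.simple_nonneg hy.1.2.1 i (fun e => hy.2 (by
      rw [Set.mem_singleton_iff, ← e, neg_neg]))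
    rw [map_neg] at h3
    exact ⟨(NJ.isRoot hy.1).act _, neg_nonneg.1 h3⟩
  have h3 := U_inf_UN R
  have h4 : n i * x * (n i)⁻¹ ∈ RGD.Sup X (RGD.Pos cs h) ⊓ UN cs h X :=
    ⟨RGD.le_Sup (S := RGD.Pos cs h) ⟨isRoot_sr cs h i, sr_nonneg i⟩ h1, h2⟩
  rw [h3, Subgroup.mem_bot] at h4
  exact mul_eq_left.1 (mul_inv_eq_one.1 h4)

theorem cell_simple {i : I} {x : Y} (hx : x ∈ X (-sr i)) (h1 : x ≠ 1) :
    Cell R.nsys cs h X (cs.simple i) x := by
  obtain ⟨a, ha, t, ht, b, hb, e⟩ := R.rk1 i x hx h1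
  exact ⟨a * t, mul_mem (RGD.X_le_B (isRoot_sr cs h i) (sr_nonneg i) ha) (RGD.T_le_B ht), n i,
    rp_simple cs R.nsys i, b, RGD.X_le_B (isRoot_sr cs h i) (sr_nonneg i) hb, e⟩

/-- **The cell of a reduced word contains an element of `U⁻` with nontrivial components.** -/
theorem exists_cell [Finite W] (h3 : ∀ i, ∀ a ∈ X (-sr i), ∃ x ∈ X (-sr i), x ≠ 1 ∧ x * a ≠ 1) {J : Set I} :
    ∀ ω : List I, cs.IsReduced ω → (∀ i ∈ ω, i ∈ J) →
    ∃ u ∈ UNJ cs h X J, Cell R.nsys cs h X (cs.wordProd ω) u ∧ ∀ i ∈ ω, u ∉ UNe cs h X J i := by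
  intro ω
  induction ω with
  | nil =>
    intro _ _
    exact ⟨1, one_mem _, by rw [wordProd_nil]; exact cell_of_rp rp_one, fun i hi => absurd hi (by simp)⟩
  | cons i ω ih =>
    intro hred hJ
    have hred' : cs.IsReduced ω := by
      have := hred.drop 1
      simpa using this
    obtain ⟨u, hu, hcell, hcomp⟩ := ih hred' (fun j hj => hJ j (by simp [hj]))
    have hiJ : i ∈ J := hJ i (by simp)
    obtain ⟨a, ha, r, hr, e⟩ := UN_dec R hiJ hu
    obtain ⟨x, hx, hx1, hxa⟩ := h3 i a ha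
    refine ⟨x * u, mul_mem (X_le_UNJ hiJ hx) hu, ?_, ?_⟩
    · rw [wordProd_cons]
      refine Cell.mul_of_length R ?_ (cell_simple R hx hx1) hcell
      have h4 : cs.length (cs.wordProd (i :: ω)) = ω.length + 1 := by rw [hred]; simp
      rw [wordProd_cons] at h4
      rw [h4, cs.length_simple, hred', add_comm]
    · intro j hj hmem
      by_cases hji : j = i
      · subst hji
        have h5 : x * a ∈ UNe cs h X J j := by
          have : x * a = x * u * r⁻¹ := by rw [e]; group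
          rw [this]; exact mul_mem hmem (inv_mem hr)
        exact hxa (inter R (mul_mem hx ha) h5)
      · have hjω : j ∈ ω := by
          rcases List.mem_cons.1 hj with h6 | h6
          · exact absurd h6 hji
          · exact h6
        have h7 : u ∈ UNe cs h X J j := by
          have : u = x⁻¹ * (x * u) := by group
          rw [this]
          exact mul_mem (inv_mem (X_le_UNe hiJ hji hx)) hmem
        exact hcomp j hjω h7

end

end Cfsg.Agent.H12.Gauss
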