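import Mathlib
import Cfsg.Agent.H12.Gauss

/-!
# Gauss decompositions with prescribed torus part, II: full support (helper12)

* `exists_full` : `J` connected, `g ∈ LJ J` not in all conjugates of `B`: some conjugate of `g` lies in the cell of
  a reduced word containing all letters of `J`;
* `exists_comp` : ... hence some conjugate is `u b` with `u ∈ UNJ J` with all simple components nontrivial.
-/

set_option autoImplicit false
set_option linter.unusedSectionVars false

namespace Cfsg.Agent.H12.Gauss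

open CoxeterSystem Cfsg.Agent.ChevalleyStructure.CoxeterGeom Cfsg.Agent.Tits.Roots Cfsg.Agent.Tits.Core
  Cfsg.Agent.Tits.RootComb Cfsg.Agent.Tits.Exchange Cfsg.Agent.Nodes.Comb Cfsg.Agent.Nodes.Reps
  Cfsg.Agent.Nodes.BNOf Cfsg.Agent.Nodes.StabComb Cfsg.Agent.Nodes.Bruhat Cfsg.Agent.Nodes.OppDec
  Cfsg.Agent.Nodes.LeviDec Cfsg.Agent.KFacts.RgdOpp
open scoped commutatorElement

variable {I W Y : Type*} [Fintype I] [DecidableEq I] [Group W] [Group Y] {M : CoxeterMatrix I}
  {cs : CoxeterSystem M W} {A : I → I → ℤ} {h : IsCartan M A} {p : ℕ} {T : Subgroup Y} {n : I → Y}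
  {X : (I → ℤ) → Subgroup Y}

section Cox

variable (cs) (h)
include h

omit h in
theorem pairing_sr' (i j : I) : pairing A i (sr j) = A i j := by
  unfold sr
  rw [pairing_single, mul_one]

theorem rep_word_apply {ω : List I} {i : I} (hi : i ∉ ω) : rep cs h (cs.wordProd ω) (sr i) i = 1 := by
  have h1 : cs.wordProd ω ∈ WJ cs {k | k ∈ ω} := by
    rw [wordProd]
    refine Subgroup.list_prod_mem _ fun x hx => ?_
    obtain ⟨k, hk, rfl⟩ := List.mem_map.1 hx
    exact simple_mem_WJ cs hk
  rw [rep_apply_of_mem cs h h1 (sr i) (k := i) hi, sr_self]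

theorem rep_word_nonneg {ω : List I} {i : I} (hi : i ∉ ω) : 0 ≤ rep cs h (cs.wordProd ω) (sr i) := by
  refine nonneg_of_pos_apply ((isRoot_sr cs h i).act _) (k := i) ?_
  rw [rep_word_apply cs h hi]; exact one_pos

theorem word_append {ω : List I} (hω : cs.IsReduced ω) {i : I} (hi : i ∉ ω) : cs.IsReduced (ω ++ [i]) := by
  unfold CoxeterSystem.IsReduced
  rw [wordProd_append, wordProd_singleton, List.length_append, List.length_singleton]
  rcases cs.length_mul_simple (cs.wordProd ω) i with h1 | h1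
  · rw [h1, hω]
  · exfalso
    have h2 : rep cs h (cs.wordProd ω) (sr i) i ≤ 0 := nonpos_of_lt cs h (cs.wordProd ω) i (by omega) i
    rw [rep_word_apply cs h hi] at h2
    omega

/-- if `ω` is reduced, `i ∉ ω` and `ω` fixes `α_i`, then all letters commute with `i` -/
theorem all_two {i : I} : ∀ ω : List I, cs.IsReduced ω → i ∉ ω →
    rep cs h (cs.wordProd ω) (sr i) = sr i → ∀ j ∈ ω, M j i = 2 := by
  intro ω
  induction ω using List.reverseRecOn with
  | nil => intro _ _ _ j hj; simp at hj
  | append_singleton ω j ih =>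
    intro hred hi he l hl
    have hred' : cs.IsReduced ω := by
      have := hred.take ω.length
      simpa using this
    have hiω : i ∉ ω := fun h1 => hi (by simp [h1])
    have hji : j ≠ i := fun h1 => hi (by simp [h1])
    have hlen : cs.length (cs.wordProd ω) < cs.length (cs.wordProd ω * cs.simple j) := by
      have h1 : cs.length (cs.wordProd (ω ++ [j])) = ω.length + 1 := by rw [hred]; simp
      rw [wordProd_append, wordProd_singleton] at h1
      rw [h1, hred']; omega
    have hpos := nonneg_of_lt cs h (cs.wordProd ω) j hlen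
    have e1 : rep cs h (cs.wordProd (ω ++ [j])) (sr i) =
        rep cs h (cs.wordProd ω) (sr i) - A j i • rep cs h (cs.wordProd ω) (sr j) := by
      rw [wordProd_append, wordProd_singleton, rep_mul_apply, rep_simple_eq, map_sub, map_smul, pairing_sr']
    have hge : (sr i : I → ℤ) ≤ rep cs h (cs.wordProd ω) (sr i) := by
      intro k
      by_cases hk : k = i
      · subst hk; rw [rep_word_apply cs h hiω, sr_self]
      · rw [sr_ne hk]; exact rep_word_nonneg cs h hiω k
    have hA : A j i ≤ 0 := cartan_nonpos h hji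
    have hA0 : A j i = 0 := by
      by_contra hA1
      have hlt : A j i < 0 := lt_of_le_of_ne hA hA1
      obtain ⟨k, hk⟩ : ∃ k, 0 < rep cs h (cs.wordProd ω) (sr j) k := by
        by_contra hcon
        push Not at hcon
        exact ((isRoot_sr cs h j).act _).not_pos_neg hpos hcon
      have h1 : (rep cs h (cs.wordProd ω) (sr i) - A j i • rep cs h (cs.wordProd ω) (sr j)) k = (sr i : I → ℤ) k :=
        congrFun (e1.symm.trans he) k
      rw [Pi.sub_apply, Pi.smul_apply, smul_eq_mul] at h1
      have h2 : (sr i : I → ℤ) k ≤ rep cs h (cs.wordProd ω) (sr i) k := hge k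
      have h3 : A j i * rep cs h (cs.wordProd ω) (sr j) k < 0 := mul_neg_of_neg_of_pos hlt hk
      linarith
    rw [e1, hA0, zero_smul, sub_zero] at he
    have h2 := ih hred' hiω he
    rcases List.mem_append.1 hl with h3 | h3
    · exact h2 l h3
    · rw [List.mem_singleton] at h3
      subst h3
      by_contra h4
      exact absurd (cartan_neg h hji h4) (by rw [hA0]; exact lt_irrefl _)

/-- conjugation by a new adjacent letter -/
theorem word_conj {ω : List I} (hω : cs.IsReduced ω) {i : I} (hi : i ∉ ω) (hj : ∃ j ∈ ω, M j i ≠ 2) :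
    cs.IsReduced (i :: (ω ++ [i])) := by
  have h1 := word_append cs h hω hi
  have hrev : cs.IsReduced ω.reverse := by
    unfold CoxeterSystem.IsReduced
    rw [wordProd_reverse, cs.length_inv, hω, List.length_reverse]
  have hne : rep cs h (cs.wordProd ω.reverse) (sr i) ≠ sr i := by
    intro he
    obtain ⟨j, hj, hji⟩ := hj
    exact hji (all_two cs h ω.reverse hrev (by simpa using hi) he j (by simpa using hj))
  have h2 : 0 ≤ rep cs h (cs.simple i) (rep cs h (cs.wordProd ω.reverse) (sr i)) :=
    ((isRoot_sr cs h i).act _).simple_nonneg (rep_word_nonneg cs h (by simpa using hi)) i hne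
  rw [← rep_mul_apply] at h2
  unfold CoxeterSystem.IsReduced
  rw [wordProd_cons, wordProd_append, wordProd_singleton, List.length_cons, List.length_append,
    List.length_singleton]
  have h3 : cs.length (cs.wordProd ω * cs.simple i) = ω.length + 1 := by
    have := h1
    unfold CoxeterSystem.IsReduced at this
    rw [wordProd_append, wordProd_singleton, List.length_append, List.length_singleton] at this
    exact this
  rcases cs.length_simple_mul (cs.wordProd ω * cs.simple i) i with h4 | h4
  · rw [h4, h3]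
  · exfalso
    have h5 : cs.length (cs.simple i * cs.wordProd ω.reverse * cs.simple i) <
        cs.length (cs.simple i * cs.wordProd ω.reverse) := by
      have e1 : (cs.simple i * cs.wordProd ω.reverse * cs.simple i)⁻¹ =
          cs.simple i * (cs.wordProd ω * cs.simple i) := by
        rw [wordProd_reverse]; simp [mul_assoc]
      have e2 : (cs.simple i * cs.wordProd ω.reverse)⁻¹ = cs.wordProd ω * cs.simple i := by
        rw [wordProd_reverse]; simp
      rw [← cs.length_inv, e1, ← cs.length_inv (cs.simple i * cs.wordProd ω.reverse), e2]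
      omega
    exact ((isRoot_sr cs h i).act _).not_pos_neg h2 (nonpos_of_lt cs h _ i h5)

end Cox

/-- `J` is connected -/
def Conn (M : CoxeterMatrix I) (J : Set I) : Prop :=
  ∀ S ⊆ J, S.Nonempty → S ≠ J → ∃ i ∈ J, i ∉ S ∧ ∃ j ∈ S, M j i ≠ 2

section

variable (R : RGD cs h p T n X)

include R

theorem exists_full_aux [Finite W] {J : Set I} (hJ : Conn M J) (N : ℕ) : ∀ {g : Y}, g ∈ LJ cs h T X J →
    ∀ {ω : List I}, cs.IsReduced ω → (∀ i ∈ ω, i ∈ J) → ω ≠ [] → Cell R.nsys cs h X (cs.wordProd ω) g →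
    (Finset.univ.filter fun i => i ∉ ω).card ≤ N →
    ∃ y ∈ LJ cs h T X J, ∃ ω' : List I, cs.IsReduced ω' ∧ (∀ i ∈ ω', i ∈ J) ∧ (∀ i ∈ J, i ∈ ω') ∧
      Cell R.nsys cs h X (cs.wordProd ω') (y * g * y⁻¹) := by
  induction N with
  | zero =>
    intro g hg ω hω hωJ hne hcell hN
    refine ⟨1, one_mem _, ω, hω, hωJ, fun i _ => ?_, by simpa using hcell⟩
    by_contra hi
    have h1 : (Finset.univ.filter fun i => i ∉ ω) = ∅ := Finset.card_eq_zero.1 (by omega)
    have h2 : i ∈ (Finset.univ.filter fun i => i ∉ ω) := by simp [hi]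
    rw [h1] at h2
    simp at h2
  | succ N ih =>
    intro g hg ω hω hωJ hne hcell hN
    by_cases hfull : ∀ i ∈ J, i ∈ ω
    · exact ⟨1, one_mem _, ω, hω, hωJ, hfull, by simpa using hcell⟩
    push Not at hfull
    obtain ⟨i0, hi0, hi0'⟩ := hfull
    obtain ⟨i, hiJ, hiS, j, hjS, hij⟩ := hJ {k | k ∈ ω} (fun k hk => hωJ k hk)
      (by
        obtain ⟨a, l, rfl⟩ := List.exists_cons_of_ne_nil hne
        exact ⟨a, by simp⟩)
      (fun he => hi0' (by have : i0 ∈ {k | k ∈ ω} := by rw [he]; exact hi0
                          exact this))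
    have hred := word_conj cs h hω (i := i) hiS ⟨j, hjS, hij⟩
    have hred2 := word_append cs h hω (i := i) hiS
    have hn : n i ∈ LJ cs h T X J := n_mem_LJ R hiJ
    have hc1 : Cell R.nsys cs h X (cs.simple i) (n i) := cell_of_rp (rp_simple cs R.nsys i)
    have hc2 : Cell R.nsys cs h X (cs.simple i) (n i)⁻¹ := by
      have := hc1.inv
      rwa [inv_simple] at this
    have hc3 : Cell R.nsys cs h X (cs.wordProd ω * cs.simple i) (g * (n i)⁻¹) := by
      refine Cell.mul_of_length R ?_ hcell hc2
      have := hred2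
      unfold CoxeterSystem.IsReduced at this
      rw [wordProd_append, wordProd_singleton, List.length_append, List.length_singleton] at this
      rw [this, hω, cs.length_simple]
    have hc4 : Cell R.nsys cs h X (cs.simple i * (cs.wordProd ω * cs.simple i)) (n i * (g * (n i)⁻¹)) := by
      refine Cell.mul_of_length R ?_ hc1 hc3
      have h5 := hred
      unfold CoxeterSystem.IsReduced at h5
      rw [wordProd_cons, wordProd_append, wordProd_singleton, List.length_cons, List.length_append,
        List.length_singleton] at h5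
      have h6 := hred2
      unfold CoxeterSystem.IsReduced at h6
      rw [wordProd_append, wordProd_singleton, List.length_append, List.length_singleton] at h6
      rw [h5, h6, cs.length_simple]; omega
    have hc5 : Cell R.nsys cs h X (cs.wordProd (i :: (ω ++ [i]))) (n i * g * (n i)⁻¹) := by
      rw [wordProd_cons, wordProd_append, wordProd_singleton, mul_assoc (n i) g]
      exact hc4
    obtain ⟨y, hy, ω', h1, h2, h3, h4⟩ := ih (g := n i * g * (n i)⁻¹)
      (mul_mem (mul_mem hn hg) (inv_mem hn)) hred (by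
        intro k hk
        simp only [List.mem_cons, List.mem_append, List.not_mem_nil, or_false] at hk
        rcases hk with rfl | hk | rfl
        · exact hiJ
        · exact hωJ k hk
        · exact hiJ) (by simp) hc5 (by
          have h6 : (Finset.univ.filter fun k => k ∉ (i :: (ω ++ [i]))) ⊂
              (Finset.univ.filter fun k => k ∉ ω) := by
            refine Finset.ssubset_iff_of_subset ?_ |>.2 ⟨i, by simpa using hiS, by simp⟩
            intro k hk
            simp only [Finset.mem_filter, Finset.mem_univ, true_and, List.mem_cons, List.mem_append,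
              List.not_mem_nil, or_false, not_or] at hk ⊢
            exact hk.2.1
          have := Finset.card_lt_card h6
          omega)
    refine ⟨y * n i, mul_mem hy hn, ω', h1, h2, h3, ?_⟩
    have e : y * n i * g * (y * n i)⁻¹ = y * (n i * g * (n i)⁻¹) * y⁻¹ := by group
    rw [e]; exact h4

theorem exists_full [Finite W] {J : Set I} (hJ : Conn M J) {g : Y} (hg : g ∈ LJ cs h T X J)
    (hB : g ∉ RGD.B cs h T X) :
    ∃ y ∈ LJ cs h T X J, ∃ ω' : List I, cs.IsReduced ω' ∧ (∀ i ∈ ω', i ∈ J) ∧ (∀ i ∈ J, i ∈ ω') ∧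
      CellJ R.nsys cs h X J (cs.wordProd ω') (y * g * y⁻¹) := by
  obtain ⟨w, hw, hcell⟩ := exists_cellJ R hg
  obtain ⟨ω, hωJ, hω, rfl⟩ := exists_reduced_of_mem_WJ cs hw
  have hne : ω ≠ [] := by
    rintro rfl
    rw [wordProd_nil] at hcell
    exact hB (BJ_le_B J hcell.mem_of_one)
  obtain ⟨y, hy, ω', h1, h2, h3, h4⟩ := exists_full_aux R hJ _ hg hω hωJ hne hcell.cell le_rfl
  refine ⟨y, hy, ω', h1, h2, h3, ?_⟩
  obtain ⟨w', -, hcell'⟩ := exists_cellJ R (mul_mem (mul_mem hy hg) (inv_mem hy))
  have := Cell.unique R h4 hcell'.cell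
  rw [this]
  exact hcell'

/-- **All simple components nontrivial.** -/
theorem exists_comp [Finite W] (h3 : ∀ i, ∀ a ∈ X (-sr i), ∃ x ∈ X (-sr i), x ≠ 1 ∧ x * a ≠ 1) {J : Set I}
    (hJ : Conn M J) {g : Y} (hg : g ∈ LJ cs h T X J) (hB : g ∉ RGD.B cs h T X) :
    ∃ y ∈ LJ cs h T X J, ∃ u ∈ UNJ cs h X J, ∃ b ∈ BJ cs h T X J, y * g * y⁻¹ = u * b ∧
      ∀ i ∈ J, u ∉ UNe cs h X J i := by
  obtain ⟨y, hy, ω, hred, hωJ, hfull, b₁, hb₁, k, hk, b₂, hb₂, e⟩ := exists_full R hJ hg hB
  obtain ⟨u, hu, hcell, hcomp⟩ := exists_cell R h3 (J := J) ω hred hωJ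
  obtain ⟨w', -, hcell'⟩ := exists_cellJ R (UNJ_le_LJ (T := T) hu)
  have := Cell.unique R hcell hcell'.cell
  rw [← this] at hcell'
  obtain ⟨b₃, hb₃, k', hk', b₄, hb₄, e'⟩ := hcell'
  have ht : k'⁻¹ * k ∈ T := hk'.unique hk
  have hy' : b₃ * b₁⁻¹ ∈ BJ cs h T X J := mul_mem hb₃ (inv_mem hb₁)
  refine ⟨b₃ * b₁⁻¹ * y, mul_mem (BJ_le_LJ hy') hy, u, hu,
    b₄⁻¹ * (k'⁻¹ * k) * b₂ * (b₃ * b₁⁻¹)⁻¹, mul_mem (mul_mem (mul_mem (inv_mem hb₄) (T_le_BJ ht)) hb₂)
      (inv_mem hy'), ?_, fun i hi => hcomp i (hfull i hi)⟩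
  have e2 : b₃ * b₁⁻¹ * y * g * (b₃ * b₁⁻¹ * y)⁻¹ = b₃ * b₁⁻¹ * (y * g * y⁻¹) * (b₃ * b₁⁻¹)⁻¹ := by group
  rw [e2, e, e']
  group

end

end Cfsg.Agent.H12.Gauss
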