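import Cfsg.Agent.OddHalf.LongSL.Orth
import Cfsg.Agent.H162.GaussReg

/-!
# The linear group of a Witt frame of orthogonal type (helper12, for S2523)

`ph Fr hf : GL_k(F) →* GL(V)` for an injective `f : Fin k → ι` : natural on `⟨e_{f i}⟩`, dual on `⟨f_{f i}⟩`,
trivial on the orthogonal complement; `ph_transvection` : the image of `1 + c E_ij` is `X (f i, +) (f j, -) c`;
`ph_mem_O` : the images are isometries; `ph_e`, `ph_f`, `ph_of_ne` : the action on the frame; `phE` : the
homomorphism `SL_k(F) →* E Q` for `W : WFrame (PO Q) m`.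
-/

set_option autoImplicit false

namespace Cfsg.Agent.H12.SLFrame

open QuadraticMap Matrix
open Matrix (SpecialLinearGroup)
open Cfsg.Agent.LieClassical.OrthCore
open Cfsg.Agent.TitsThree.Siegel Cfsg.Agent.TitsThree.WittFrame Cfsg.Agent.TitsThree.WittWeyl
open Cfsg.Agent.TitsThree.KSideO Cfsg.Agent.TitsThree.WBridge
open Cfsg.Agent.OddHalf.LongSL.OrthPhi Cfsg.Agent.OddHalf.LongSL.Orth

variable {F V : Type*} [Field F] [AddCommGroup V] [Module F V] {Q : QuadraticForm F V} {ι : Type*} [DecidableEq ι]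
  (Fr : Frame (HO Q) ι) {k : ℕ} (f : Fin k → ι)

/-- the coefficients at the `e` -/
def pe : V →ₗ[F] (Fin k → F) := LinearMap.pi fun j => (polarBilin Q).flip (Fr.b (f j, false))

/-- the coefficients at the `f` -/
def pf : V →ₗ[F] (Fin k → F) := LinearMap.pi fun j => (polarBilin Q).flip (Fr.b (f j, true))

theorem pe_apply (v : V) (j : Fin k) : pe Fr f v j = polar Q v (Fr.b (f j, false)) := rfl

theorem pf_apply (v : V) (j : Fin k) : pf Fr f v j = polar Q v (Fr.b (f j, true)) := rfl

/-- the combinations of the `e` -/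
def ce : (Fin k → F) →ₗ[F] V := Fintype.linearCombination F fun i => Fr.b (f i, true)

/-- the combinations of the `f` -/
def cf' : (Fin k → F) →ₗ[F] V := Fintype.linearCombination F fun i => Fr.b (f i, false)

theorem ce_apply (c : Fin k → F) : ce Fr f c = ∑ i, c i • Fr.b (f i, true) := rfl

theorem cf'_apply (c : Fin k → F) : cf' Fr f c = ∑ i, c i • Fr.b (f i, false) := rfl

theorem polar_sum_left {α : Type*} (s : Finset α) (g : α → V) (w : V) :
    polar Q (∑ i ∈ s, g i) w = ∑ i ∈ s, polar Q (g i) w := by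
  classical
  induction s using Finset.induction_on with
  | empty => simp
  | insert i s hi ih => rw [Finset.sum_insert hi, Finset.sum_insert hi, polar_add_left, ih]

variable {f} (hf : Function.Injective f)

include hf

theorem pe_ce (c : Fin k → F) : pe Fr f (ce Fr f c) = c := by
  funext j
  rw [pe_apply, ce_apply, polar_sum_left, Finset.sum_eq_single j]
  · rw [polar_smul_left, smul_eq_mul]
    have : polar Q (Fr.b (f j, true)) (Fr.b (f j, false)) = 1 := p_self_neg Fr (f j, true)
    rw [this, mul_one]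
  · intro i _ hij
    rw [polar_smul_left, p_ne Fr (z := (f i, true)) (w := (f j, false)) (fun h => hij (hf h)), smul_zero]
  · intro h; exact absurd (Finset.mem_univ _) h

theorem pf_cf (c : Fin k → F) : pf Fr f (cf' Fr f c) = c := by
  funext j
  rw [pf_apply, cf'_apply, polar_sum_left, Finset.sum_eq_single j]
  · rw [polar_smul_left, smul_eq_mul]
    have : polar Q (Fr.b (f j, false)) (Fr.b (f j, true)) = 1 := p_self_neg Fr (f j, false)
    rw [this, mul_one]
  · intro i _ hij
    rw [polar_smul_left, p_ne Fr (z := (f i, false)) (w := (f j, true)) (fun h => hij (hf h)), smul_zero]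
  · intro h; exact absurd (Finset.mem_univ _) h

theorem pe_cf (c : Fin k → F) : pe Fr f (cf' Fr f c) = 0 := by
  funext j
  rw [pe_apply, cf'_apply, polar_sum_left]
  refine Finset.sum_eq_zero fun i _ => ?_
  rw [polar_smul_left]
  by_cases hij : i = j
  · subst hij
    rw [p_self, smul_zero]
  · rw [p_ne Fr (z := (f i, false)) (w := (f j, false)) (fun h => hij (hf h)), smul_zero]

theorem pf_ce (c : Fin k → F) : pf Fr f (ce Fr f c) = 0 := by
  funext j
  rw [pf_apply, ce_apply, polar_sum_left]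
  refine Finset.sum_eq_zero fun i _ => ?_
  rw [polar_smul_left]
  by_cases hij : i = j
  · subst hij
    rw [p_self, smul_zero]
  · rw [p_ne Fr (z := (f i, true)) (w := (f j, true)) (fun h => hij (hf h)), smul_zero]

omit hf

variable (f)

/-- the linear map of a matrix -/
def phL (A : GL (Fin k) F) : V →ₗ[F] V :=
  LinearMap.id + (ce Fr f).comp ((Matrix.toLin' (A.1 - 1)).comp (pe Fr f)) +
    (cf' Fr f).comp ((Matrix.toLin' ((A⁻¹).1 - 1)ᵀ).comp (pf Fr f))

theorem phL_apply (A : GL (Fin k) F) (v : V) : phL Fr f A v =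
    v + ce Fr f ((A.1 - 1) *ᵥ pe Fr f v) + cf' Fr f (((A⁻¹).1 - 1)ᵀ *ᵥ pf Fr f v) := by
  simp only [phL, LinearMap.add_apply, LinearMap.comp_apply, LinearMap.id_apply, Matrix.toLin'_apply]

variable {f}

include hf

theorem pe_phL (A : GL (Fin k) F) (v : V) : pe Fr f (phL Fr f A v) = A.1 *ᵥ pe Fr f v := by
  rw [phL_apply, map_add, map_add, pe_ce Fr hf, pe_cf Fr hf, add_zero, sub_mulVec, one_mulVec]
  abel

theorem pf_phL (A : GL (Fin k) F) (v : V) : pf Fr f (phL Fr f A v) = (A⁻¹).1ᵀ *ᵥ pf Fr f v := by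
  rw [phL_apply, map_add, map_add, pf_ce Fr hf, pf_cf Fr hf, add_zero, transpose_sub, transpose_one, sub_mulVec,
    one_mulVec]
  abel

theorem phL_mul (A B : GL (Fin k) F) (v : V) :
    phL Fr f (A * B) v = phL Fr f A (phL Fr f B v) := by
  rw [phL_apply Fr f A, pe_phL Fr hf, pf_phL Fr hf, phL_apply Fr f B, phL_apply Fr f (A * B)]
  have h1 : ((A * B).1 - 1) *ᵥ pe Fr f v = (B.1 - 1) *ᵥ pe Fr f v + (A.1 - 1) *ᵥ (B.1 *ᵥ pe Fr f v) := by
    have h0 : (A * B).1 = A.1 * B.1 := rfl
    rw [mulVec_mulVec, ← add_mulVec, h0, sub_mul, one_mul]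
    congr 1
    abel
  have h2 : (((A * B)⁻¹).1 - 1)ᵀ *ᵥ pf Fr f v =
      ((B⁻¹).1 - 1)ᵀ *ᵥ pf Fr f v + ((A⁻¹).1 - 1)ᵀ *ᵥ ((B⁻¹).1ᵀ *ᵥ pf Fr f v) := by
    have h0 : ((A * B)⁻¹).1 = (B⁻¹).1 * (A⁻¹).1 := by rw [_root_.mul_inv_rev]; rfl
    rw [mulVec_mulVec, ← add_mulVec, h0, ← transpose_mul, ← transpose_add, mul_sub, mul_one]
    congr 2
    abel
  rw [h1, h2, map_add, map_add]
  abel

omit hf in
theorem phL_one (v : V) : phL Fr f (1 : GL (Fin k) F) v = v := by
  rw [phL_apply, inv_one]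
  have : (1 : GL (Fin k) F).1 - 1 = 0 := sub_self _
  rw [this, transpose_zero, zero_mulVec, zero_mulVec, map_zero, map_zero, add_zero, add_zero]

/-- **The homomorphism `GL(k,F) → GL(V)`.** -/
def ph : GL (Fin k) F →* (V ≃ₗ[F] V) :=
  (LinearMap.GeneralLinearGroup.generalLinearEquiv F V).toMonoidHom.comp
    (MonoidHom.toHomUnits
      { toFun := phL Fr f
        map_one' := LinearMap.ext fun v => phL_one Fr v
        map_mul' := fun A B => LinearMap.ext fun v => phL_mul Fr hf A B v })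

theorem ph_apply (A : GL (Fin k) F) (v : V) : ph Fr hf A v = phL Fr f A v := rfl

theorem ph_transvection {i j : Fin k} (hij : i ≠ j) (c : F) :
    ph Fr hf ((SpecialLinearGroup.transvection hij c : SpecialLinearGroup (Fin k) F) : GL (Fin k) F) =
      Fr.X (f i, true) (f j, false) c := by
  have hne : ((f i, true) : ι × Bool).1 ≠ ((f j, false) : ι × Bool).1 := fun h => hij (hf h)
  ext v
  rw [ph_apply, X_apply Fr hne, phL_apply]
  have hinv : (SpecialLinearGroup.transvection hij c : SpecialLinearGroup (Fin k) F)⁻¹ =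
      SpecialLinearGroup.transvection hij (-c) := by
    rw [inv_eq_iff_mul_eq_one]
    apply Subtype.ext
    change (1 + single i j c) * (1 + single i j (-c)) = 1
    rw [mul_add, add_mul, add_mul, single_mul_single_of_ne _ _ _ _ (Ne.symm hij)]
    rw [mul_one, one_mul, mul_one, add_zero, add_assoc, ← Matrix.single_add]
    simp
  have h1 : ((SpecialLinearGroup.transvection hij c : SpecialLinearGroup (Fin k) F) : GL (Fin k) F).1 - 1 =
      single i j c := by
    change (1 + single i j c) - 1 = _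
    abel
  have h2 : (((SpecialLinearGroup.transvection hij c : SpecialLinearGroup (Fin k) F) : GL (Fin k) F)⁻¹).1 - 1 =
      single i j (-c) := by
    have h3 : ((SpecialLinearGroup.transvection hij c : SpecialLinearGroup (Fin k) F) : GL (Fin k) F)⁻¹ =
      ((SpecialLinearGroup.transvection hij (-c) : SpecialLinearGroup (Fin k) F) : GL (Fin k) F) := by
      rw [← hinv]
      exact (map_inv (SpecialLinearGroup.toGL) _).symm
    rw [h3]
    change (1 + single i j (-c)) - 1 = _
    abel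
  rw [h1, h2, transpose_single, single_mulVec_eq, single_mulVec_eq, ce_apply, cf'_apply]
  unfold Frame.sc
  rw [eta_one]
  have e1 : (HO Q).ε = 1 := rfl
  have e2 : ∀ c, (HO Q).σ c = c := fun c => rfl
  have e3 : ∀ v w, (HO Q).h v w = polar Q v w := fun v w => rfl
  simp only [e1, e2, e3, inv_one]
  rw [Finset.sum_eq_single i, Finset.sum_eq_single j]
  · simp only [Pi.smul_apply, Pi.single_eq_same, smul_eq_mul, mul_one, pe_apply, pf_apply]
    module
  · intro l _ hl
    simp [hl]
  · intro h; exact absurd (Finset.mem_univ _) h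
  · intro l _ hl
    simp [hl]
  · intro h; exact absurd (Finset.mem_univ _) h

/-! ### The action on the frame -/

theorem pe_b_true (i : Fin k) : pe Fr f (Fr.b (f i, true)) = Pi.single i 1 := by
  have := pe_ce Fr hf (Pi.single i 1)
  rw [ce_apply, Finset.sum_eq_single i] at this
  · rwa [Pi.single_eq_same, one_smul] at this
  · intro l _ hl; rw [Pi.single_eq_of_ne hl, zero_smul]
  · intro h; exact absurd (Finset.mem_univ _) h

theorem pf_b_true (i : Fin k) : pf Fr f (Fr.b (f i, true)) = 0 := by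
  have := pf_ce Fr hf (Pi.single i 1)
  rw [ce_apply, Finset.sum_eq_single i] at this
  · rwa [Pi.single_eq_same, one_smul] at this
  · intro l _ hl; rw [Pi.single_eq_of_ne hl, zero_smul]
  · intro h; exact absurd (Finset.mem_univ _) h

theorem pf_b_false (i : Fin k) : pf Fr f (Fr.b (f i, false)) = Pi.single i 1 := by
  have := pf_cf Fr hf (Pi.single i 1)
  rw [cf'_apply, Finset.sum_eq_single i] at this
  · rwa [Pi.single_eq_same, one_smul] at this
  · intro l _ hl; rw [Pi.single_eq_of_ne hl, zero_smul]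
  · intro h; exact absurd (Finset.mem_univ _) h

theorem pe_b_false (i : Fin k) : pe Fr f (Fr.b (f i, false)) = 0 := by
  have := pe_cf Fr hf (Pi.single i 1)
  rw [cf'_apply, Finset.sum_eq_single i] at this
  · rwa [Pi.single_eq_same, one_smul] at this
  · intro l _ hl; rw [Pi.single_eq_of_ne hl, zero_smul]
  · intro h; exact absurd (Finset.mem_univ _) h

theorem ph_of_ne (A : GL (Fin k) F) {z : ι × Bool} (hz : ∀ i, f i ≠ z.1) : ph Fr hf A (Fr.b z) = Fr.b z := by
  rw [ph_apply, phL_apply]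
  have h1 : pe Fr f (Fr.b z) = 0 := funext fun j => p_ne Fr (w := (f j, false)) (fun h => hz j h.symm)
  have h2 : pf Fr f (Fr.b z) = 0 := funext fun j => p_ne Fr (w := (f j, true)) (fun h => hz j h.symm)
  rw [h1, h2, mulVec_zero, mulVec_zero, map_zero, map_zero, add_zero, add_zero]

/-- the scalar matrices -/
def scl (k : ℕ) (a : Fˣ) : GL (Fin k) F where
  val := (a : F) • 1
  inv := ((a⁻¹ : Fˣ) : F) • 1
  val_inv := by rw [smul_mul_smul_comm, mul_one, ← Units.val_mul, mul_inv_cancel, Units.val_one, one_smul]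
  inv_val := by rw [smul_mul_smul_comm, mul_one, ← Units.val_mul, inv_mul_cancel, Units.val_one, one_smul]

omit hf in
theorem scl_mul (a b : Fˣ) : scl k a * scl k b = scl k (a * b) := by
  apply Units.ext
  change ((a : F) • (1 : Matrix (Fin k) (Fin k) F)) * ((b : F) • 1) = ((a * b : Fˣ) : F) • 1
  rw [smul_mul_smul_comm, mul_one, Units.val_mul]

omit hf in
theorem scl_comm (a : Fˣ) (A : GL (Fin k) F) : scl k a * A = A * scl k a := by
  apply Units.ext
  change ((a : F) • (1 : Matrix (Fin k) (Fin k) F)) * A.1 = A.1 * ((a : F) • 1)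
  rw [smul_mul_assoc, one_mul, mul_smul_comm, mul_one]

theorem ph_scl_true (a : Fˣ) (i : Fin k) : ph Fr hf (scl k a) (Fr.b (f i, true)) = (a : F) • Fr.b (f i, true) := by
  rw [ph_apply, phL_apply, pe_b_true Fr hf, pf_b_true Fr hf, mulVec_zero, map_zero, add_zero]
  change _ + ce Fr f (((a : F) • (1 : Matrix (Fin k) (Fin k) F) - 1) *ᵥ Pi.single i 1) = _
  rw [sub_mulVec, smul_mulVec, one_mulVec, map_sub, map_smul]
  have : ce Fr f (Pi.single i 1) = Fr.b (f i, true) := by
    rw [ce_apply, Finset.sum_eq_single i]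
    · rw [Pi.single_eq_same, one_smul]
    · intro l _ hl; rw [Pi.single_eq_of_ne hl, zero_smul]
    · intro h; exact absurd (Finset.mem_univ _) h
  rw [this]
  abel

theorem ph_scl_false (a : Fˣ) (i : Fin k) :
    ph Fr hf (scl k a) (Fr.b (f i, false)) = ((a⁻¹ : Fˣ) : F) • Fr.b (f i, false) := by
  rw [ph_apply, phL_apply, pe_b_false Fr hf, pf_b_false Fr hf, mulVec_zero, map_zero, add_zero]
  change _ + cf' Fr f ((((a⁻¹ : Fˣ) : F) • (1 : Matrix (Fin k) (Fin k) F) - 1)ᵀ *ᵥ Pi.single i 1) = _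
  rw [transpose_sub, transpose_smul, transpose_one, sub_mulVec, smul_mulVec, one_mulVec, map_sub, map_smul]
  have : cf' Fr f (Pi.single i 1) = Fr.b (f i, false) := by
    rw [cf'_apply, Finset.sum_eq_single i]
    · rw [Pi.single_eq_same, one_smul]
    · intro l _ hl; rw [Pi.single_eq_of_ne hl, zero_smul]
    · intro h; exact absurd (Finset.mem_univ _) h
  rw [this]
  abel

/-! ### Isometries -/

theorem Q_ce_cf (hQ : ∀ z, Q (Fr.b z) = 0) (c d : Fin k → F) : Q (ce Fr f c + cf' Fr f d) = c ⬝ᵥ d := by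
  have h1 : ∀ s : Finset (Fin k), Q (∑ i ∈ s, c i • Fr.b (f i, true)) = 0 := by
    intro s
    induction s using Finset.induction_on with
    | empty => simp
    | insert i s hi ih =>
      rw [Finset.sum_insert hi, Q_add, ih, QuadraticMap.map_smul, hQ, smul_zero, add_zero, polar_comm, polar_sum_left,
        Finset.sum_eq_zero, add_zero]
      intro j hj
      rw [polar_smul_left, polar_smul_right, p_ne Fr (z := (f j, true)) (w := (f i, true))
        (fun h => hi (by rw [← hf h]; exact hj)), smul_zero, smul_zero]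
  have h2 : ∀ s : Finset (Fin k), Q (∑ i ∈ s, d i • Fr.b (f i, false)) = 0 := by
    intro s
    induction s using Finset.induction_on with
    | empty => simp
    | insert i s hi ih =>
      rw [Finset.sum_insert hi, Q_add, ih, QuadraticMap.map_smul, hQ, smul_zero, add_zero, polar_comm, polar_sum_left,
        Finset.sum_eq_zero, add_zero]
      intro j hj
      rw [polar_smul_left, polar_smul_right, p_ne Fr (z := (f j, false)) (w := (f i, false))
        (fun h => hi (by rw [← hf h]; exact hj)), smul_zero, smul_zero]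
  rw [Q_add, ce_apply, cf'_apply, h1, h2, polar_comm, polar_sum_left]
  rw [zero_add, zero_add]
  unfold dotProduct
  refine Finset.sum_congr rfl fun i _ => ?_
  have h3 : polar Q (Fr.b (f i, false)) (∑ j, c j • Fr.b (f j, true)) = c i := by
    rw [polar_comm, ← ce_apply, ← pe_apply, pe_ce Fr hf]
  rw [polar_smul_left, h3, smul_eq_mul, mul_comm]

theorem ph_mem_O (hQ : ∀ z, Q (Fr.b z) = 0) (A : GL (Fin k) F) : ph Fr hf A ∈ O Q := by
  intro v
  rw [ph_apply, phL_apply]
  obtain ⟨c, hc⟩ : ∃ c, c = (A.1 - 1) *ᵥ pe Fr f v := ⟨_, rfl⟩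
  obtain ⟨d, hd⟩ : ∃ d, d = ((A⁻¹).1 - 1)ᵀ *ᵥ pf Fr f v := ⟨_, rfl⟩
  rw [← hc, ← hd, add_assoc, Q_add, Q_ce_cf Fr hf hQ, polar_add_right]
  have h1 : polar Q v (ce Fr f c) = c ⬝ᵥ pf Fr f v := by
    rw [polar_comm, ce_apply, polar_sum_left]
    refine Finset.sum_congr rfl fun i _ => ?_
    rw [polar_smul_left, polar_comm, smul_eq_mul]
    rfl
  have h2 : polar Q v (cf' Fr f d) = pe Fr f v ⬝ᵥ d := by
    rw [dotProduct_comm, polar_comm, cf'_apply, polar_sum_left]
    refine Finset.sum_congr rfl fun i _ => ?_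
    rw [polar_smul_left, polar_comm, smul_eq_mul]
    rfl
  have h3 : c ⬝ᵥ d = (A.1 *ᵥ pe Fr f v - pe Fr f v) ⬝ᵥ ((A⁻¹).1ᵀ *ᵥ pf Fr f v - pf Fr f v) := by
    rw [hc, hd, transpose_sub, transpose_one, sub_mulVec, sub_mulVec, one_mulVec, one_mulVec]
  have h4 : (A.1 *ᵥ pe Fr f v) ⬝ᵥ ((A⁻¹).1ᵀ *ᵥ pf Fr f v) = pe Fr f v ⬝ᵥ pf Fr f v := by
    rw [mulVec_transpose, dotProduct_comm, ← dotProduct_mulVec, mulVec_mulVec]
    have : (A⁻¹).1 * A.1 = 1 := A.inv_mul
    rw [this, one_mulVec, dotProduct_comm]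
  have h5 : c ⬝ᵥ pf Fr f v = (A.1 *ᵥ pe Fr f v) ⬝ᵥ pf Fr f v - pe Fr f v ⬝ᵥ pf Fr f v := by
    rw [hc, sub_mulVec, one_mulVec, sub_dotProduct]
  have h6 : pe Fr f v ⬝ᵥ d = pe Fr f v ⬝ᵥ ((A⁻¹).1ᵀ *ᵥ pf Fr f v) - pe Fr f v ⬝ᵥ pf Fr f v := by
    rw [hd, transpose_sub, transpose_one, sub_mulVec, one_mulVec, dotProduct_sub]
  rw [h1, h2, h3, sub_dotProduct, dotProduct_sub, dotProduct_sub, h4, h5, h6]
  ring

end Cfsg.Agent.H12.SLFrame
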