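import Cfsg.Agent.H12.SLFrame
import Cfsg.Agent.H162.GaussMain
import Cfsg.Agent.Nodes.WittInst
import Cfsg.Agent.Nodes.TyChart
import Cfsg.Agent.OddHalf.NI.OmegaPlus
import Cfsg.Agent.H206.OrthBal
import Cfsg.Agent.S0296

/-!
# `PΩ⁺_{2m}(F)` is the square of a class, `|F| ≥ 9`, `m ≥ 4` (helper12; S2523, task 270)
-/

set_option autoImplicit false
set_option linter.unusedSectionVars false

namespace Cfsg.Agent.H12.SquarePlus

open CoxeterSystem Cfsg.Agent.ChevalleyStructure.CoxeterGeom Cfsg.Agent.Tits.Roots Cfsg.Agent.Tits.Core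
open Cfsg.Agent.Nodes.Reps Cfsg.Agent.Nodes.BNOf Cfsg.Agent.Nodes.StabComb Cfsg.Agent.Nodes.RGDLib
  Cfsg.Agent.Nodes.Bruhat
open QuadraticMap
open Matrix (SpecialLinearGroup)
open Cfsg.Agent.LieClassical Cfsg.Agent.LieClassical.OrthCore Cfsg.Agent.LieClassical.OrthTrans
open Cfsg.Agent.LieClassical.OrthSimple Cfsg.Agent.LieClassical.OrthFinite Cfsg.Agent.LieClassical.OrthForms
open Cfsg.Agent.TitsThree Cfsg.Agent.TitsThree.Siegel Cfsg.Agent.TitsThree.SiegelGen
  Cfsg.Agent.TitsThree.WittFrame Cfsg.Agent.TitsThree.WittWeyl Cfsg.Agent.TitsThree.WBridge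
  Cfsg.Agent.TitsThree.KSideO
open Cfsg.Agent.Nodes
open Cfsg.Agent.Nodes.TypeC (wt wt_apply)
open Cfsg.Agent.Nodes.TypeD (ee pd nx bt bt_apply Ok)
open Cfsg.Agent.Nodes.WittRoot (Amb XG Mono XG_swap)
open Cfsg.Agent.Nodes.WittRGD (Tor mem_Tor b_ne_zero)
open Cfsg.Agent.OddHalf.LongSL.OrthPhi Cfsg.Agent.OddHalf.LongSL.Orth
open Cfsg.Agent.OddHalf.NI Cfsg.Agent.OddHalf.NI.OmegaPlus
open Cfsg.Agent.OddHalf.NI.Mult (up lo dg Coord)
open Cfsg.Agent.H162 Cfsg.Agent.H162.GaussSL Cfsg.Agent.H162.GaussReg Cfsg.Agent.H162.GaussMain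
  Cfsg.Agent.H162.GaussLevi
open Cfsg.Agent.H12.SLFrame

/-! ### Combinatorics of the roots -/

section Comb

variable {n : ℕ}

/-- the total sum of the coordinates -/
def tot (u : Fin (n + 2) → ℤ) : ℤ := ∑ j, u j

theorem tot_wt (z : Fin (n + 2) × Bool) : tot (wt z) = if z.2 then 1 else -1 := by
  unfold tot wt
  rw [Finset.sum_pi_single', if_pos (Finset.mem_univ _)]

theorem tot_add (u v : Fin (n + 2) → ℤ) : tot (u + v) = tot u + tot v := by
  unfold tot
  exact Finset.sum_add_distrib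

theorem tot_bt (i : Fin (n + 2)) : tot (bt i) = if (i : ℕ) + 1 < n + 2 then 0 else 2 := by
  unfold bt
  rw [tot_add, tot_wt, tot_wt]
  unfold nx
  split_ifs <;> simp_all

theorem tot_ee (x : Fin (n + 2) → ℤ) : tot (ee x) = 2 * x (Fin.last (n + 1)) := by
  have h1 : tot (ee x) = ∑ i, x i * tot (bt i) := by
    unfold tot ee
    simp only [Finset.sum_apply, Pi.smul_apply, smul_eq_mul]
    rw [Finset.sum_comm]
    exact Finset.sum_congr rfl fun i _ => by rw [Finset.mul_sum]
  rw [h1, Finset.sum_eq_single (Fin.last (n + 1))]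
  · rw [tot_bt, if_neg (by simp)]; ring
  · intro i _ hi
    have : (i : ℕ) + 1 < n + 2 := by
      have h2 := i.2
      have h3 : (i : ℕ) ≠ n + 1 := fun h => hi (Fin.ext h)
      omega
    rw [tot_bt, if_pos this, mul_zero]
  · intro h; exact absurd (Finset.mem_univ _) h

theorem ee_last (x : Fin (n + 2) → ℤ) : ee x (Fin.last (n + 1)) = x (Fin.last (n + 1)) - x (pd n) := by
  have h1 : ee x (Fin.last (n + 1)) = ∑ i, x i * bt i (Fin.last (n + 1)) := by
    unfold ee
    simp only [Finset.sum_apply, Pi.smul_apply, smul_eq_mul]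
  have hne : (Fin.last (n + 1) : Fin (n + 2)) ≠ pd n := by
    intro h; have := congrArg Fin.val h; simp [pd] at this
  rw [h1, ← Finset.sum_subset (Finset.subset_univ {Fin.last (n + 1), pd n}), Finset.sum_pair hne]
  · rw [bt_apply, bt_apply]
    simp [pd]
    ring
  · intro i _ hi
    simp only [Finset.mem_insert, Finset.mem_singleton, not_or] at hi
    have h2 : (i : ℕ) ≠ n + 1 := fun h => hi.1 (Fin.ext h)
    have h3 : (i : ℕ) ≠ n := fun h => hi.2 (Fin.ext h)
    have := i.2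
    rw [bt_apply, if_pos (by omega), if_neg (by simp; omega), if_neg (by simp; omega), mul_zero]

theorem partial_ee (x : Fin (n + 2) → ℤ) {m : Fin (n + 2)} (hm : (m : ℕ) < n) :
    ∑ j ∈ Finset.Iic m, ee x j = x m := by
  have h1 : ∑ j ∈ Finset.Iic m, ee x j = ∑ i, x i * ∑ j ∈ Finset.Iic m, bt i j := by
    unfold ee
    simp only [Finset.sum_apply, Pi.smul_apply, smul_eq_mul]
    rw [Finset.sum_comm]
    exact Finset.sum_congr rfl fun i _ => by rw [Finset.mul_sum]
  rw [h1, Finset.sum_eq_single m]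
  · rw [TypeD.sum_bt, if_pos (by omega), if_pos rfl, mul_one]
  · intro i _ hi
    rw [TypeD.sum_bt]
    split_ifs with h2 h3 h4 h5
    · exact absurd h3.symm hi
    · rw [mul_zero]
    · omega
    · omega
    · rw [mul_zero]
  · intro h; exact absurd (Finset.mem_univ _) h

variable (k : ℕ)

/-- the nodes of the block -/
def J : Set (Fin (k + 1 + 2)) := {i | i.1 < k + 1}

/-- the indices of the block -/
def f (i : Fin (k + 2)) : Fin (k + 1 + 2) := ⟨i.1, by omega⟩

theorem f_injective : Function.Injective (f k) := fun i j h => Fin.ext (by simpa [f] using congrArg Fin.val h)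

variable {k}

theorem f_ne_last (i : Fin (k + 2)) : f k i ≠ Fin.last (k + 2) := by
  intro h
  have := congrArg Fin.val h
  have := i.2
  simp [f] at *
  omega

theorem eq_last_or (j : Fin (k + 1 + 2)) : j = Fin.last (k + 2) ∨ ∃ i, j = f k i := by
  by_cases h : (j : ℕ) < k + 2
  · exact Or.inr ⟨⟨j, h⟩, rfl⟩
  · exact Or.inl (Fin.ext (by simp; omega))

theorem wt_last (z : Fin (k + 1 + 2) × Bool) (hz : z.1 ≠ Fin.last (k + 2)) : wt z (Fin.last (k + 1 + 1)) = 0 := by
  rw [wt_apply, if_neg (fun h => hz h.symm)]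

/-- the roots of the block -/
theorem exists_of_block {x : Fin (k + 1 + 2) → ℤ} {a b : Fin (k + 1 + 2) × Bool} (hab : Ok a b)
    (e : ee x = wt a + wt b) (h0 : ∀ l, l ∉ J k → x l = 0) :
    ∃ i j, i ≠ j ∧ ee x = wt (f k i, true) + wt (f k j, false) := by
  have h1 : x (Fin.last (k + 1 + 1)) = 0 := h0 _ (by simp [J])
  have h2 : x (pd (k + 1)) = 0 := h0 _ (by simp [J, pd])
  have h3 := tot_ee x
  have h4 := ee_last x
  rw [h1, mul_zero, e, tot_add, tot_wt, tot_wt] at h3
  rw [h1, h2, sub_zero, e, Pi.add_apply, wt_apply, wt_apply] at h4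
  have ha : a.1 ≠ Fin.last (k + 2) := by
    intro h
    rw [if_pos h.symm, if_neg (fun h' => hab (h.trans h')), add_zero] at h4
    split_ifs at h4 <;> omega
  have hb : b.1 ≠ Fin.last (k + 2) := by
    intro h
    rw [if_neg (fun h' => hab (h'.symm.trans h.symm)), if_pos h.symm, zero_add] at h4
    split_ifs at h4 <;> omega
  obtain ⟨a1, s⟩ := a
  obtain ⟨b1, t⟩ := b
  obtain ⟨i, rfl⟩ := (eq_last_or a1).resolve_left ha
  obtain ⟨j, rfl⟩ := (eq_last_or b1).resolve_left hb
  have hij : i ≠ j := fun h => hab (by rw [h])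
  cases s <;> cases t
  · simp at h3
  · exact ⟨j, i, hij.symm, e.trans (add_comm (wt (f k i, false)) (wt (f k j, true)))⟩
  · exact ⟨i, j, hij, e⟩
  · simp at h3

theorem block_zero {x : Fin (k + 1 + 2) → ℤ} {i j : Fin (k + 2)}
    (e : ee x = wt (f k i, true) + wt (f k j, false)) (l : Fin (k + 1 + 2)) (hl : l ∉ J k) : x l = 0 := by
  have h3 := tot_ee x
  have h4 := ee_last x
  rw [e, tot_add, tot_wt, tot_wt] at h3
  rw [e, Pi.add_apply, wt_last _ (f_ne_last i), wt_last _ (f_ne_last j)] at h4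
  have h5 : x (Fin.last (k + 1 + 1)) = 0 := by simp at h3; omega
  have h6 : x (pd (k + 1)) = 0 := by rw [h5] at h4; omega
  have hl' : ¬ (l : ℕ) < k + 1 := hl
  have := l.2
  by_cases h7 : (l : ℕ) = k + 1
  · have : l = pd (k + 1) := Fin.ext h7
    rw [this, h6]
  · have : l = Fin.last (k + 1 + 1) := Fin.ext (by simp; omega)
    rw [this, h5]

theorem lt_of_pos {x : Fin (k + 1 + 2) → ℤ} {i j : Fin (k + 2)} (hij : i ≠ j)
    (e : ee x = wt (f k i, true) + wt (f k j, false)) (h0 : 0 ≤ x) : i < j := by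
  by_contra hcon
  have hji : j < i := lt_of_le_of_ne (not_lt.1 hcon) hij.symm
  have hi := i.2
  have hji' : (j : ℕ) < i := hji
  have h1 := partial_ee x (m := f k j) (by simp [f]; omega)
  have h2 : ∑ l ∈ Finset.Iic (f k j), ee x l = -1 := by
    rw [e]
    simp only [Pi.add_apply, Finset.sum_add_distrib, wt, Finset.sum_pi_single', Finset.mem_Iic]
    rw [if_neg (not_le.2 (show f k j < f k i from hji')), if_pos le_rfl]
    simp
  have h3 : 0 ≤ x (f k j) := h0 (f k j)
  rw [← h1, h2] at h3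
  exact absurd h3 (by norm_num)

end Comb

/-! ### The block -/

section Block

variable {F V : Type*} [Field F] [AddCommGroup V] [Module F V] {Q : QuadraticForm F V} {k : ℕ}
  (W : WFrame (KSideO.PO Q) (k + 1 + 2))

theorem Q_b (z : Fin (k + 1 + 2) × Bool) : Q ((toFrame W).b z) = 0 := (sing_iff Q).1 (b_sing W z)

theorem X_mem_E (x y : Fin (k + 1 + 2) × Bool) (t : F) : (toFrame W).X x y t ∈ E Q := by
  by_cases h : x.1 ≠ y.1
  · rw [← Phi_u (toFrame W) h t]
    exact Phi_mem' W _ _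
  · rw [Frame.X, dif_neg h]; exact Subgroup.one_mem _

theorem ph_mem_E (A : SpecialLinearGroup (Fin (k + 2)) F) :
    ph (toFrame W) (f_injective k) (A : GL (Fin (k + 2)) F) ∈ E Q := by
  have h1 : (⊤ : Subgroup (SpecialLinearGroup (Fin (k + 2)) F)) ≤
      (E Q).comap ((ph (toFrame W) (f_injective k)).comp SpecialLinearGroup.toGL) := by
    rw [← Cfsg.Agent.LieClassical.SLGen.closure_transvections, Subgroup.closure_le]
    rintro _ ⟨i, j, hij, c, rfl⟩
    change ph (toFrame W) (f_injective k) _ ∈ E Q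
    rw [ph_transvection]
    exact X_mem_E W _ _ _
  exact h1 (Subgroup.mem_top A)

/-- the homomorphism of the block -/
def phE : SpecialLinearGroup (Fin (k + 2)) F →* E Q :=
  ((ph (toFrame W) (f_injective k)).comp SpecialLinearGroup.toGL).codRestrict (E Q) (ph_mem_E W)

theorem coe_phE (A : SpecialLinearGroup (Fin (k + 2)) F) :
    ((phE W A : E Q) : V ≃ₗ[F] V) = ph (toFrame W) (f_injective k) (A : GL (Fin (k + 2)) F) := rfl

theorem phE_tv {i j : Fin (k + 2)} (hij : i ≠ j) (c : F) :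
    ((phE W (SpecialLinearGroup.transvection hij c) : E Q) : V ≃ₗ[F] V) =
      (toFrame W).X (f k i, true) (f k j, false) c := ph_transvection (toFrame W) (f_injective k) hij c

theorem ok_ff {i j : Fin (k + 2)} (hij : i ≠ j) (s t : Bool) :
    ((f k i, s) : Fin (k + 1 + 2) × Bool).1 ≠ ((f k j, t) : Fin (k + 1 + 2) × Bool).1 :=
  fun h => hij (f_injective k h)

theorem mem_X_tv {i j : Fin (k + 2)} (hij : i ≠ j) {x : Fin (k + 1 + 2) → ℤ}
    (e : ee x = wt (f k i, true) + wt (f k j, false)) {g : E Q} :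
    g ∈ OmegaPlus.X W x ↔ ∃ c, g = phE W (SpecialLinearGroup.transvection hij c) := by
  rw [OmegaPlus.X, Subgroup.mem_subgroupOf, WittRGDD.rg_eq (toFrame W) (ok_ff hij true false) e]
  constructor
  · rintro ⟨t, ht⟩
    exact ⟨t, Subtype.ext (by rw [phE_tv, ht])⟩
  · rintro ⟨t, rfl⟩
    exact ⟨t, phE_tv W hij t⟩

/-! ### The element `s₀` -/

variable (hG : Good Q) (b : Fˣ)

include hG in
theorem s0_mem : ph (toFrame W) (f_injective k) (scl (k + 2) (b * b)) ∈ E Q := by
  rw [← scl_mul, map_mul]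
  exact Cfsg.Agent.H206.OrthBal.sq_mem_E hG (ph_mem_O _ _ (Q_b W) _)

/-- the semisimple element -/
def s0 : E Q := ⟨ph (toFrame W) (f_injective k) (scl (k + 2) (b * b)), s0_mem W hG b⟩

/-- its characters -/
def ch (z : Fin (k + 1 + 2) × Bool) : Fˣ :=
  if z.1 = Fin.last (k + 2) then 1 else if z.2 then b * b else (b * b)⁻¹

theorem s0_b (z : Fin (k + 1 + 2) × Bool) :
    ((s0 W hG b : E Q) : V ≃ₗ[F] V) ((toFrame W).b z) = ((ch b z : Fˣ) : F) • (toFrame W).b z := by
  obtain ⟨z1, s⟩ := z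
  rcases eq_last_or z1 with rfl | ⟨i, rfl⟩
  · unfold ch
    rw [if_pos rfl, Units.val_one, one_smul]
    exact ph_of_ne (toFrame W) (f_injective k) _ fun i => f_ne_last i
  · unfold ch
    rw [if_neg (f_ne_last i)]
    cases s
    · exact ph_scl_false (toFrame W) (f_injective k) _ i
    · exact ph_scl_true (toFrame W) (f_injective k) _ i

theorem s0_mem_T : s0 W hG b ∈ OmegaPlus.T W := by
  rw [mem_T]
  exact fun z => ⟨_, (ch b z).ne_zero, s0_b W hG b z⟩

theorem s0_comm (A : SpecialLinearGroup (Fin (k + 2)) F) : s0 W hG b * phE W A = phE W A * s0 W hG b := by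
  apply Subtype.ext
  change ph (toFrame W) (f_injective k) _ * ph (toFrame W) (f_injective k) _ =
    ph (toFrame W) (f_injective k) _ * ph (toFrame W) (f_injective k) _
  rw [← map_mul, ← map_mul, scl_comm]

variable {b}

theorem ch_ne (h1 : b * b ≠ 1) (h2 : (b * b) * (b * b) ≠ 1) {x : Fin (k + 1 + 2) → ℤ}
    {a c : Fin (k + 1 + 2) × Bool} (hac : Ok a c) (e : ee x = wt a + wt c) {l : Fin (k + 1 + 2)} (hl : l ∉ J k)
    (hx : x l ≠ 0) : ch b a * ch b c ≠ 1 := by
  obtain ⟨a1, s⟩ := a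
  obtain ⟨c1, t⟩ := c
  have h1' : (b * b)⁻¹ ≠ 1 := inv_ne_one.2 h1
  have h2' : (b * b)⁻¹ * (b * b)⁻¹ ≠ 1 := by rw [← mul_inv]; exact inv_ne_one.2 h2
  rcases eq_last_or a1 with rfl | ⟨i, rfl⟩
  · rcases eq_last_or c1 with rfl | ⟨j, rfl⟩
    · exact absurd rfl hac
    · unfold ch
      rw [if_pos rfl, if_neg (f_ne_last j), one_mul]
      split_ifs
      · exact h1
      · exact h1'
  · rcases eq_last_or c1 with rfl | ⟨j, rfl⟩
    · unfold ch
      rw [if_pos rfl, if_neg (f_ne_last i), mul_one]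
      split_ifs
      · exact h1
      · exact h1'
    · unfold ch
      rw [if_neg (f_ne_last i), if_neg (f_ne_last j)]
      cases s <;> cases t
      · exact h2'
      · exact absurd (block_zero (e.trans (add_comm (wt (f k i, false)) (wt (f k j, true)))) l hl) hx
      · exact absurd (block_zero e l hl) hx
      · exact h2

theorem iso_of_mem {g : V ≃ₗ[F] V} (hg : g ∈ E Q) : (HO Q).IsIso g := fun v w => polar_map (E_le_O hg) v w

theorem conj_X' {g : V ≃ₗ[F] V} (hg : g ∈ E Q) {x y x' y' : Fin (k + 1 + 2) × Bool} (h : x.1 ≠ y.1)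
    (h' : x'.1 ≠ y'.1) {l m : F} (hx : g ((toFrame W).b x) = l • (toFrame W).b x')
    (hy : g ((toFrame W).b y) = m • (toFrame W).b y') (t : F) :
    g * (toFrame W).X x y t * g⁻¹ = (toFrame W).X x' y' (l * m * t) := by
  rw [conj_X (toFrame W) (iso_of_mem hg) h h' hx hy t, eta_one, eta_one, inv_one, mul_one, mul_one]
  rfl

theorem nofix {Wc : Type*} [Group Wc] (cs : CoxeterSystem (TypeD.M (k + 1)) Wc) (h1 : b * b ≠ 1)
    (h2 : (b * b) * (b * b) ≠ 1) : NoFix cs (TypeD.isCartan (k + 1)) (OmegaPlus.X W) (J k) (s0 W hG b) := by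
  rintro r hr ⟨l, hl, hrl⟩ g hg hfix
  obtain ⟨a, c, hac, e⟩ := TypeD.exists_of_isRoot cs hr
  rw [OmegaPlus.X, Subgroup.mem_subgroupOf, WittRGDD.rg_eq (toFrame W) hac e] at hg
  obtain ⟨t, ht⟩ := hg
  have h3 := ch_ne h1 h2 hac e hl hrl
  have h4 := conj_X' W (s0 W hG b).2 (x := a) (y := c) (x' := a) (y' := c) hac hac (s0_b W hG b a)
    (s0_b W hG b c) t
  have h5 := congrArg Subtype.val hfix
  have h6 : (toFrame W).X a c (((ch b a : Fˣ) : F) * ((ch b c : Fˣ) : F) * t) = (toFrame W).X a c t := by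
    rw [← h4, ← ht]
    exact h5
  have h7 : ((ch b a : Fˣ) : F) * ((ch b c : Fˣ) : F) * t = t := by
    have h8 : (toFrame W).X a c (((ch b a : Fˣ) : F) * ((ch b c : Fˣ) : F) * t) ((toFrame W).b (neg c)) =
      (toFrame W).X a c t ((toFrame W).b (neg c)) := by rw [h6]
    rw [X_apply_neg _ hac, X_apply_neg _ hac, add_right_inj] at h8
    have h9 : (((ch b a : Fˣ) : F) * ((ch b c : Fˣ) : F) * t - t) • (toFrame W).b a = 0 := by
      rw [sub_smul, h8, sub_self]
    exact sub_eq_zero.1 ((smul_eq_zero.1 h9).resolve_right (b_ne_zero _))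
  have h8 : t = 0 := by
    by_contra h0
    apply h3
    apply Units.ext
    rw [Units.val_mul, Units.val_one]
    exact mul_right_cancel₀ h0 (h7.trans (one_mul t).symm)
  apply Subtype.ext
  rw [ht, h8, Frame.X_zero]
  rfl

/-! ### The diagonal automorphism -/

theorem ok_fl : ((f k 0, true) : Fin (k + 1 + 2) × Bool).1 ≠ ((Fin.last (k + 2), false) : Fin (k + 1 + 2) × Bool).1 :=
  f_ne_last 0

/-- the torus element inducing `diag(d, 1, …, 1)` -/
def yd (d : Fˣ) : E Q := phi W (ok_fl (k := k)) (dg d)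

theorem yd_true (d : Fˣ) (i : Fin (k + 2)) : ((yd W d : E Q) : V ≃ₗ[F] V) ((toFrame W).b (f k i, true)) =
    (if i = 0 then (d : F) else 1) • (toFrame W).b (f k i, true) := by
  unfold yd
  rw [coe_phi, Phi_dg, cf_add, cf_wt, cf_wt]
  rw [if_neg (show ¬ ((f k i, true) : Fin (k + 1 + 2) × Bool).1 = Fin.last (k + 2) from f_ne_last i), add_zero]
  by_cases h : i = 0
  · subst h
    simp
  · rw [if_neg (fun h' => h (f_injective k h')), if_neg h, zpow_zero, Units.val_one]

theorem yd_false (d : Fˣ) (i : Fin (k + 2)) : ((yd W d : E Q) : V ≃ₗ[F] V) ((toFrame W).b (f k i, false)) =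
    (if i = 0 then ((d⁻¹ : Fˣ) : F) else 1) • (toFrame W).b (f k i, false) := by
  unfold yd
  rw [coe_phi, Phi_dg, cf_add, cf_wt, cf_wt]
  rw [if_neg (show ¬ ((f k i, false) : Fin (k + 1 + 2) × Bool).1 = Fin.last (k + 2) from f_ne_last i), add_zero]
  by_cases h : i = 0
  · subst h
    simp
  · rw [if_neg (fun h' => h (f_injective k h')), if_neg h, zpow_zero, Units.val_one]

theorem yd_diag (d : Fˣ) (z : Fin (k + 1 + 2) × Bool) : ∃ c : F, ((yd W d : E Q) : V ≃ₗ[F] V) ((toFrame W).b z) =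
    c • (toFrame W).b z := by
  unfold yd
  rw [coe_phi]
  exact ⟨_, Phi_dg W _ d z⟩

theorem phE_hom_ext {g : E Q} {f' : SpecialLinearGroup (Fin (k + 2)) F →* SpecialLinearGroup (Fin (k + 2)) F}
    (h : ∀ i j (hij : i ≠ j) (c : F), ((g : V ≃ₗ[F] V) * (toFrame W).X (f k i, true) (f k j, false) c *
      (g : V ≃ₗ[F] V)⁻¹) = ((phE W (f' (SpecialLinearGroup.transvection hij c)) : E Q) : V ≃ₗ[F] V))
    (A : SpecialLinearGroup (Fin (k + 2)) F) : g * phE W A * g⁻¹ = phE W (f' A) := by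
  have h1 : (MulAut.conj g).toMonoidHom.comp (phE W) = (phE W).comp f' := by
    refine hom_ext fun i j hij c => ?_
    apply Subtype.ext
    change (g : V ≃ₗ[F] V) * ((phE W (SpecialLinearGroup.transvection hij c) : E Q) : V ≃ₗ[F] V) *
      (g : V ≃ₗ[F] V)⁻¹ = _
    rw [phE_tv]
    exact h i j hij c
  exact DFunLike.congr_fun h1 A

theorem yd_conj (d : Fˣ) (A : SpecialLinearGroup (Fin (k + 2)) F) :
    yd W d * phE W A * (yd W d)⁻¹ = phE W (gc (dd (k + 1) d) A) := by
  refine phE_hom_ext W (f' := gcHom (dd (k + 1) d)) (fun i j hij c => ?_) A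
  rw [conj_X' W (yd W d).2 (ok_ff hij true false) (ok_ff hij true false) (yd_true W d i) (yd_false W d j),
    gcHom_apply, gc_dd_transvection, phE_tv]
  congr 1
  ring

variable (hV : ∀ w ∈ W.V0, w = 0)

include hV

theorem ext_b' {g l : E Q} (h : ∀ z, (g : V ≃ₗ[F] V) ((toFrame W).b z) = (l : V ≃ₗ[F] V) ((toFrame W).b z)) :
    g = l := by
  apply Subtype.ext
  apply ext_b W h
  intro w hw
  rw [hV w hw, map_zero, map_zero]

theorem yd_s0 (b d : Fˣ) : yd W d * s0 W hG b * (yd W d)⁻¹ = s0 W hG b := by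
  rw [mul_inv_eq_iff_eq_mul]
  apply ext_b' W hV
  intro z
  obtain ⟨c, hc⟩ := yd_diag W d z
  change ((yd W d : E Q) : V ≃ₗ[F] V) (((s0 W hG b : E Q) : V ≃ₗ[F] V) ((toFrame W).b z)) =
    ((s0 W hG b : E Q) : V ≃ₗ[F] V) (((yd W d : E Q) : V ≃ₗ[F] V) ((toFrame W).b z))
  rw [s0_b, hc, map_smul, map_smul, s0_b, hc, smul_smul, smul_smul, mul_comm]

omit hV

/-! ### The element inverting `s₀` -/

theorem polar_v (i : Fin (k + 1 + 2)) (z : Fin (k + 1 + 2) × Bool) :
    polar Q ((toFrame W).b (i, true) + (-1 : F) • (toFrame W).b (i, false)) ((toFrame W).b z) =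
      if z.1 = i then (if z.2 then -1 else 1) else 0 := by
  obtain ⟨j, s⟩ := z
  rw [polar_add_left, polar_smul_left]
  by_cases h : j = i
  · subst h
    have h1 : polar Q ((toFrame W).b (j, true)) ((toFrame W).b (j, false)) = 1 := p_self_neg (toFrame W) (j, true)
    have h2 : polar Q ((toFrame W).b (j, false)) ((toFrame W).b (j, true)) = 1 := p_self_neg (toFrame W) (j, false)
    cases s
    · rw [h1, p_self]; simp
    · rw [h2, p_self]; simp
  · rw [p_ne (toFrame W) (z := (i, true)) (w := (j, s)) (Ne.symm h),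
      p_ne (toFrame W) (z := (i, false)) (w := (j, s)) (Ne.symm h)]
    simp [h]

theorem Q_v (i : Fin (k + 1 + 2)) : Q ((toFrame W).b (i, true) + (-1 : F) • (toFrame W).b (i, false)) = -1 := by
  have h1 : polar Q ((toFrame W).b (i, true)) ((toFrame W).b (i, false)) = 1 := p_self_neg (toFrame W) (i, true)
  rw [Q_add, QuadraticMap.map_smul, Q_b, Q_b, polar_smul_right, h1]
  simp

theorem Q_v_ne (i : Fin (k + 1 + 2)) : Q ((toFrame W).b (i, true) + (-1 : F) • (toFrame W).b (i, false)) ≠ 0 := by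
  rw [Q_v]; exact neg_ne_zero.2 one_ne_zero

theorem refl_v (i : Fin (k + 1 + 2)) (z : Fin (k + 1 + 2) × Bool) :
    OrthCore.refl Q _ (Q_v_ne W i) ((toFrame W).b z) = (toFrame W).b (if z.1 = i then neg z else z) := by
  obtain ⟨j, s⟩ := z
  rw [OrthCore.refl_apply, polar_v, Q_v]
  by_cases h : j = i
  · subst h
    simp only [if_true]
    cases s
    · simp only [Bool.false_eq_true, if_false]
      change _ = (toFrame W).b (j, true)
      module
    · simp only [if_true]
      change _ = (toFrame W).b (j, false)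
      module
  · rw [if_neg h, if_neg h, mul_zero, zero_smul, sub_zero]

include hG in
theorem exists_swap : ∀ l : List (Fin (k + 1 + 2)), l.Nodup → ∃ g ∈ O Q,
    (∀ z, g ((toFrame W).b z) = (toFrame W).b (if z.1 ∈ l then neg z else z)) ∧ (Even l.length → g ∈ E Q) ∧
      (¬ Even l.length → ∀ v (hv : Q v ≠ 0), Q v = -1 → OrthCore.refl Q v hv * g ∈ E Q) := by
  intro l
  induction l with
  | nil =>
    intro _
    exact ⟨1, one_mem _, fun z => by simp, fun _ => one_mem _, fun h => absurd (by simp) h⟩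
  | cons i l ih =>
    intro hl
    obtain ⟨hil, hl'⟩ := List.nodup_cons.1 hl
    obtain ⟨g, hg, h1, h2, h3⟩ := ih hl'
    refine ⟨OrthCore.refl Q _ (Q_v_ne W i) * g, mul_mem (refl_mem_O _) hg, fun z => ?_, fun he => ?_,
      fun ho v hv hvv => ?_⟩
    · change OrthCore.refl Q _ (Q_v_ne W i) (g ((toFrame W).b z)) = _
      rw [h1, refl_v]
      congr 1
      by_cases hzi : z.1 = i
      · have h4 : z.1 ∉ l := by rw [hzi]; exact hil
        rw [if_neg h4, if_pos hzi, if_pos (by rw [hzi]; simp)]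
      · by_cases hzl : z.1 ∈ l
        · rw [if_pos hzl, if_neg (show ¬ (neg z).1 = i from hzi), if_pos (by simp [hzl])]
        · rw [if_neg hzl, if_neg hzi, if_neg (by simp [hzi, hzl])]
    · refine h3 ?_ _ (Q_v_ne W i) (Q_v W i)
      intro h4
      rw [List.length_cons, Nat.even_add_one] at he
      exact he h4
    · rw [List.length_cons, Nat.even_add_one, not_not] at ho
      rw [← mul_assoc]
      exact mul_mem (hG.refl_mul_refl_mem (Q_v_ne W i) hv (by rw [Q_v, hvv])) (h2 ho)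

include hG in
theorem exists_sigma : ∃ g : E Q,
    (∀ i s, (g : V ≃ₗ[F] V) ((toFrame W).b (f k i, s)) = (toFrame W).b (f k i, !s)) ∧
      ∀ s, ∃ s', (g : V ≃ₗ[F] V) ((toFrame W).b (Fin.last (k + 2), s)) = (toFrame W).b (Fin.last (k + 2), s') := by
  have hnd : ((List.finRange (k + 2)).map (f k)).Nodup := (List.nodup_finRange _).map (f_injective k)
  have hmem : ∀ i, f k i ∈ (List.finRange (k + 2)).map (f k) := fun i =>
    List.mem_map.2 ⟨i, List.mem_finRange i, rfl⟩
  have hlast : Fin.last (k + 2) ∉ (List.finRange (k + 2)).map (f k) := by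
    intro h
    obtain ⟨i, -, hi⟩ := List.mem_map.1 h
    exact f_ne_last i hi
  have hlen : ((List.finRange (k + 2)).map (f k)).length = k + 2 := by
    rw [List.length_map, List.length_finRange]
  by_cases he : Even (k + 2)
  · obtain ⟨g, -, h1, h2, -⟩ := exists_swap W hG _ hnd
    refine ⟨⟨g, h2 (by rw [hlen]; exact he)⟩, fun i s => ?_, fun s => ⟨s, ?_⟩⟩
    · change g _ = _
      rw [h1, if_pos (hmem i)]; rfl
    · change g _ = _
      rw [h1, if_neg hlast]
  · obtain ⟨g, -, h1, h2, -⟩ := exists_swap W hG (Fin.last (k + 2) :: (List.finRange (k + 2)).map (f k))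
      (List.nodup_cons.2 ⟨hlast, hnd⟩)
    refine ⟨⟨g, h2 (by rw [List.length_cons, hlen, Nat.even_add_one]; exact he)⟩, fun i s => ?_, fun s => ⟨!s, ?_⟩⟩
    · change g _ = _
      rw [h1, if_pos (List.mem_cons_of_mem _ (hmem i))]; rfl
    · change g _ = _
      rw [h1, if_pos (by simp)]; rfl

/-- the transposed inverse -/
def trInv (n : ℕ) (K : Type*) [Field K] : SpecialLinearGroup (Fin n) K →* SpecialLinearGroup (Fin n) K where
  toFun A := (tr A)⁻¹
  map_one' := by rw [tr_one, inv_one]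
  map_mul' A B := by rw [tr_mul, mul_inv_rev]

theorem trInv_tv {n : ℕ} {K : Type*} [Field K] {i j : Fin n} (hij : i ≠ j) (c : K) :
    trInv n K (SpecialLinearGroup.transvection hij c) = SpecialLinearGroup.transvection hij.symm (-c) := by
  change (tr (SpecialLinearGroup.transvection hij c))⁻¹ = _
  rw [inv_eq_iff_mul_eq_one]
  apply Subtype.ext
  change Matrix.transpose (1 + Matrix.single i j c) * (1 + Matrix.single j i (-c)) = 1
  rw [Matrix.transpose_add, Matrix.transpose_one, Matrix.transpose_single, mul_add, add_mul, add_mul,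
    Matrix.single_mul_single_of_ne _ _ _ _ hij]
  rw [mul_one, one_mul, mul_one, add_zero, add_assoc, ← Matrix.single_add]
  simp

theorem sigma_conj {g : E Q} (hg : ∀ i s, (g : V ≃ₗ[F] V) ((toFrame W).b (f k i, s)) = (toFrame W).b (f k i, !s))
    (A : SpecialLinearGroup (Fin (k + 2)) F) : g * phE W A * g⁻¹ = phE W ((tr A)⁻¹) := by
  refine phE_hom_ext W (f' := trInv (k + 2) F) (fun i j hij c => ?_) A
  have h1 := conj_X' W g.2 (ok_ff hij true false) (ok_ff hij false true) (l := 1) (m := 1)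
    (by rw [hg, one_smul]; rfl) (by rw [hg, one_smul]; rfl) c
  rw [h1, trInv_tv, phE_tv, Frame.X_swap _ (ok_ff hij false true), eta_one, eta_one]
  have e1 : (HO Q).ε = 1 := rfl
  have e2 : ∀ c, (HO Q).σ c = c := fun c => rfl
  rw [e1, e2]
  congr 1
  ring

/-! ### The block datum -/

theorem tv_mem_UT {n : ℕ} {K : Type*} [Field K] {i j : Fin n} (hij : i < j) (c : K) :
    SpecialLinearGroup.transvection hij.ne c ∈ UT n K := by
  rw [mem_UT]
  constructor
  · intro a b hab
    change (1 + Matrix.single i j c) a b = 0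
    rw [Matrix.add_apply, Matrix.one_apply_ne hab.ne', Matrix.single_apply_of_ne, add_zero]
    rintro ⟨rfl, rfl⟩
    exact absurd hab (not_lt.2 hij.le)
  · intro a
    change (1 + Matrix.single i j c) a a = 1
    rw [Matrix.add_apply, Matrix.one_apply_eq, Matrix.single_apply_of_ne, add_zero]
    rintro ⟨rfl, h⟩
    exact hij.ne h.symm

theorem tv_mem_LT {n : ℕ} {K : Type*} [Field K] {i j : Fin n} (hij : i < j) (c : K) :
    SpecialLinearGroup.transvection hij.ne' c ∈ LT n K := by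
  rw [mem_LT]
  constructor
  · intro a b hab
    change (1 + Matrix.single j i c) a b = 0
    rw [Matrix.add_apply, Matrix.one_apply_ne hab.ne, Matrix.single_apply_of_ne, add_zero]
    rintro ⟨rfl, rfl⟩
    exact absurd hab (not_lt.2 hij.le)
  · intro a
    change (1 + Matrix.single j i c) a a = 1
    rw [Matrix.add_apply, Matrix.one_apply_eq, Matrix.single_apply_of_ne, add_zero]
    rintro ⟨rfl, h⟩
    exact hij.ne h

theorem exists_root {Wc : Type*} [Group Wc] (cs : CoxeterSystem (TypeD.M (k + 1)) Wc) {i j : Fin (k + 2)}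
    (hij : i ≠ j) : ∃ x ∈ RootsJ cs (TypeD.isCartan (k + 1)) (J k), ee x = wt (f k i, true) + wt (f k j, false) := by
  obtain ⟨x, hx, e⟩ := TypeD.rt_of_ok (cs := cs) (a := (f k i, true)) (b := (f k j, false)) (ok_ff hij true false)
  exact ⟨x, ⟨hx, fun l hl => block_zero e l hl⟩, e⟩

include hG in
theorem blk (hV : ∀ w ∈ W.V0, w = 0) {Wc : Type*} [Group Wc] (cs : CoxeterSystem (TypeD.M (k + 1)) Wc) {b : Fˣ}
    (h1 : b * b ≠ 1) (h2 : (b * b) * (b * b) ≠ 1) :
    Blk cs (TypeD.isCartan (k + 1)) (OmegaPlus.T W) (OmegaPlus.X W) (J k) F k (s0 W hG b) (phE W) where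
  mem := s0_mem_T W hG b
  fix := nofix W hG cs h1 h2
  comm := s0_comm W hG b
  range A := by
    have h1 : (⊤ : Subgroup (SpecialLinearGroup (Fin (k + 2)) F)) ≤
        (LJ cs (TypeD.isCartan (k + 1)) (OmegaPlus.T W) (OmegaPlus.X W) (J k)).comap (phE W) := by
      rw [← Cfsg.Agent.LieClassical.SLGen.closure_transvections, Subgroup.closure_le]
      rintro _ ⟨i, j, hij, c, rfl⟩
      obtain ⟨x, hx, e⟩ := exists_root cs hij
      exact X_le_LJ hx ((mem_X_tv W hij e).2 ⟨c, rfl⟩)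
    exact h1 (Subgroup.mem_top A)
  up := by
    rintro r ⟨hr, h0, hJ⟩ g hg
    obtain ⟨a, c, hac, e⟩ := TypeD.exists_of_isRoot cs hr
    obtain ⟨i, j, hij, e'⟩ := exists_of_block hac e hJ
    obtain ⟨t, rfl⟩ := (mem_X_tv W hij e').1 hg
    exact ⟨_, tv_mem_UT (lt_of_pos hij e' h0) t, rfl⟩
  lo := by
    rintro r ⟨hr, h0, hJ⟩ g hg
    obtain ⟨a, c, hac, e⟩ := TypeD.exists_of_isRoot cs hr
    obtain ⟨i, j, hij, e'⟩ := exists_of_block hac e hJ
    have e2 : ee (-r) = wt (f k j, true) + wt (f k i, false) := by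
      rw [TypeD.ee_neg, e', show ((f k j, true) : Fin (k + 1 + 2) × Bool) = TypeC.ng (f k j, false) from rfl,
        show ((f k i, false) : Fin (k + 1 + 2) × Bool) = TypeC.ng (f k i, true) from rfl, TypeC.wt_ng, TypeC.wt_ng]
      abel
    obtain ⟨t, rfl⟩ := (mem_X_tv W hij.symm e2).1 hg
    exact ⟨_, tv_mem_LT (lt_of_pos hij e' h0) t, rfl⟩
  gl := gl_of_dd (n := k + 1) (s0_comm W hG b) fun d => ⟨yd W d, yd_s0 W hG hV b d, yd_conj W d⟩
  inv := by
    obtain ⟨g, hg, hg'⟩ := exists_sigma W hG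
    refine ⟨g, ?_, ?_⟩
    · have h3 : s0 W hG b * g * s0 W hG b = g := by
        apply ext_b' W hV
        rintro ⟨z, s⟩
        change ((s0 W hG b : E Q) : V ≃ₗ[F] V) ((g : V ≃ₗ[F] V) (((s0 W hG b : E Q) : V ≃ₗ[F] V)
          ((toFrame W).b (z, s)))) = (g : V ≃ₗ[F] V) ((toFrame W).b (z, s))
        rw [s0_b, map_smul, map_smul]
        rcases eq_last_or z with rfl | ⟨i, rfl⟩
        · obtain ⟨s', hs'⟩ := hg' s
          rw [hs', s0_b]
          unfold ch
          rw [if_pos rfl, if_pos rfl, Units.val_one, one_smul, one_smul]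
        · rw [hg, s0_b, smul_smul, ← Units.val_mul]
          have : ch b (f k i, s) * ch b (f k i, !s) = 1 := by
            unfold ch
            rw [if_neg (f_ne_last i), if_neg (f_ne_last i)]
            cases s <;> simp
          rw [this, Units.val_one, one_smul]
      have h4 : s0 W hG b * g = g * (s0 W hG b)⁻¹ := by
        rw [eq_mul_inv_iff_mul_eq]; exact h3
      calc g * s0 W hG b * g⁻¹ = (s0 W hG b)⁻¹ * (s0 W hG b * g * s0 W hG b) * g⁻¹ := by group
        _ = (s0 W hG b)⁻¹ := by rw [h3]; group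
    · obtain ⟨x, hx⟩ := exists_tr_inv (K := F) (n := k + 2) (by omega)
      exact ⟨x, by rw [sigma_conj W hg, hx]⟩

end Block

/-! ### The theorem -/

section Main

variable {F : Type*} [Field F] [Fintype F]

theorem exists_unit (hF : 9 ≤ Fintype.card F) : ∃ b : Fˣ, b * b ≠ 1 ∧ (b * b) * (b * b) ≠ 1 := by
  classical
  obtain ⟨g, hg⟩ := IsCyclic.exists_generator (α := Fˣ)
  have h1 : orderOf g = Fintype.card F - 1 := by
    rw [orderOf_eq_card_of_forall_mem_zpowers hg, Nat.card_eq_fintype_card, Fintype.card_units]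
  have h4 : (g * g) * (g * g) ≠ 1 := by
    intro h
    have h2 : g ^ 4 = 1 := by
      rw [← h, pow_succ, pow_succ, pow_two, mul_assoc]
    have h3 := orderOf_le_of_pow_eq_one (by norm_num) h2
    omega
  refine ⟨g, fun h => h4 (by rw [h, one_mul]), h4⟩

theorem square_pplus (hF : 9 ≤ Fintype.card F) (m : ℕ) (hm : 4 ≤ m) :
    ∃ c : Cfsg.POmega F (Cfsg.quadFormPlus m F), ∀ g, ∃ x y, g = (x * c * x⁻¹) * (y * c * y⁻¹) := by
  obtain ⟨k, rfl⟩ : ∃ k, m = k + 1 + 2 := ⟨m - 3, by omega⟩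
  have hsimple : IsSimpleGroup (Cfsg.POmega F (Cfsg.quadFormPlus (k + 1 + 2) F)) := Cfsg.Agent.S0296.result _ hm
  rw [← coe_plusForm] at hsimple ⊢
  have hG : Good (plusForm (k + 1 + 2) F) := by
    apply good_of_finite (nondeg_plusForm (k + 1 + 2) F)
    rw [Module.finrank_fintype_fun_eq_card, Fintype.card_sum, Fintype.card_fin]
    omega
  obtain ⟨p, hp⟩ := CharP.exists F
  have hpp : Fact p.Prime := ⟨CharP.char_is_prime F p⟩
  let W := WittInst.wplus (k + 1 + 2) F
  have h0 : ∀ q : (toFrame W).Adm, q = 1 := WittInst.adm_plus (k + 1 + 2)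
  have hV : ∀ w ∈ W.V0, w = 0 := fun w hw => V0_eq W h0 hw
  have hA : Amb (toFrame W) (E (plusForm (k + 1 + 2) F)) := WittInst.amb_plus (k + 1 + 2)
  let cs := (TypeD.M (k + 1)).toCoxeterSystem
  have hfinV : Finite ((Fin (k + 1 + 2) ⊕ Fin (k + 1 + 2) → F) ≃ₗ[F] (Fin (k + 1 + 2) ⊕ Fin (k + 1 + 2) → F)) :=
    Finite.of_injective (fun g => (g : (Fin (k + 1 + 2) ⊕ Fin (k + 1 + 2) → F) → (Fin (k + 1 + 2) ⊕ Fin (k + 1 + 2) → F)))
      DFunLike.coe_injective
  have hfinW := TypeD.finite_W cs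
  have R : RGD cs (TypeD.isCartan (k + 1)) p (OmegaPlus.T W)
      (fun i => ⟨WittRGDD.nn (toFrame W) i, WittRGDD.nn_mem hA i⟩) (OmegaPlus.X W) :=
    rgd_restrict (WittAll.rgdD hA h0 cs) (E (plusForm (k + 1 + 2) F)) (fun x _ => OmegaPlus.rg_le W x)
      (fun i => WittRGDD.nn_mem hA i)
  have hG1 : G1 cs (TypeD.isCartan (k + 1)) (OmegaPlus.X W) = ⊤ := by
    have h1 := WittInst.G1D_eq_top W (MonoidHom.id (E (plusForm (k + 1 + 2) F))) Function.surjective_id h0 cs
    have h2 : WittInst.XD W (MonoidHom.id (E (plusForm (k + 1 + 2) F))) = OmegaPlus.X W := by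
      funext x
      exact Subgroup.map_id _
    rwa [h2] at h1
  obtain ⟨b, hb1, hb2⟩ := exists_unit hF
  have D := blk W hG hV cs hb1 hb2
  have hK : (4 : Cardinal) ≤ Cardinal.mk F := by
    rw [Cardinal.mk_fintype]
    exact_mod_cast (by omega : 4 ≤ Fintype.card F)
  exact square R (toPOmega hG) (toPOmega_surjective hG) (WittInst.ker_toPOmega hG)
    (c₀ := s0 W hG b * phE W (JS (k + 2) F))
    fun g hg => main R hG1 (OmegaPlus.coord W) (Chart.Ty.irrD (k + 1) (by omega)) hK D hg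

end Main

end Cfsg.Agent.H12.SquarePlus
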